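import Groth.Agent.Lib.DerCat.Truncation
import Groth.Prelude.Def_WeakSerre

/-! # Objects with cohomology in a weak Serre class -/

universe w w' v v' u u'

open CategoryTheory Limits Pretriangulated DerivedCategory

namespace GrothLib.DerTrunc

variable {A : Type u} [Category.{v} A] [Abelian A]

lemma prop_of_exact (P : ObjectProperty A) [WSerre.IsWeakSerre P] {X₁ X₂ X₃ X₄ X₅ : A}
    {a : X₁ ⟶ X₂} {f : X₂ ⟶ X₃} {g : X₃ ⟶ X₄} {b : X₄ ⟶ X₅}
    {w₁ : a ≫ f = 0} {w₂ : f ≫ g = 0} {w₃ : g ≫ b = 0}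
    (e₁ : (ShortComplex.mk a f w₁).Exact) (e₂ : (ShortComplex.mk f g w₂).Exact)
    (e₃ : (ShortComplex.mk g b w₃).Exact) (h₁ : P X₁) (h₂ : P X₂) (h₄ : P X₄) (h₅ : P X₅) :
    P X₃ := by
  let i : cokernel a ⟶ X₃ := cokernel.desc a f w₁
  let p : X₃ ⟶ kernel b := kernel.lift b g w₃
  have hi : Mono i := e₁.mono_cokernelDesc
  have hp : Epi p := e₃.epi_kernelLift
  have w : i ≫ g = 0 := by
    rw [← cancel_epi (cokernel.π a)]
    simp [i, w₂]
  have w' : i ≫ p = 0 := by
    rw [← cancel_mono (kernel.ι b)]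
    simp [p, w]
  have e : (ShortComplex.mk i g w).Exact :=
    (ShortComplex.exact_iff_of_epi_of_isIso_of_mono (S₁ := ShortComplex.mk f g w₂)
      (S₂ := ShortComplex.mk i g w) { τ₁ := cokernel.π a, τ₂ := 𝟙 _, τ₃ := 𝟙 _ }).1 e₂
  have e' : (ShortComplex.mk i p w').Exact :=
    (ShortComplex.exact_iff_of_epi_of_isIso_of_mono (S₁ := ShortComplex.mk i p w')
      (S₂ := ShortComplex.mk i g w) { τ₁ := 𝟙 _, τ₂ := 𝟙 _, τ₃ := kernel.ι b }).2 e
  exact P.prop_X₂_of_shortExact (S := ShortComplex.mk i p w') { exact := e' }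
    (P.prop_of_isColimit_cokernelCofork (colimit.isColimit (parallelPair a 0)) h₁ h₂)
    (P.prop_of_isLimit_kernelFork (limit.isLimit (parallelPair b 0)) h₄ h₅)

variable [HasDerivedCategory.{w} A] (P : ObjectProperty A) [WSerre.IsWeakSerre P]

lemma cohIn_obj₂ {T : Triangle (DerivedCategory A)} (hT : T ∈ distTriang _)
    (h₁ : WSerre.cohIn P T.obj₁) (h₃ : WSerre.cohIn P T.obj₃) : WSerre.cohIn P T.obj₂ := fun i =>
  prop_of_exact P (HomologySequence.exact₁ _ hT (i - 1) i (by omega))
    (HomologySequence.exact₂ _ hT i) (HomologySequence.exact₃ _ hT i (i + 1) rfl)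
    (h₃ (i - 1)) (h₁ i) (h₃ i) (h₁ (i + 1))

lemma cohIn_shift {X : DerivedCategory A} (h : WSerre.cohIn P X) (a : ℤ) :
    WSerre.cohIn P (X⟦a⟧) := fun i =>
  P.prop_of_iso (((homologyFunctor A 0).shiftIso a i (a + i) rfl).app X).symm (h (a + i))

lemma cohIn_of_iso {X Y : DerivedCategory A} (e : X ≅ Y) (h : WSerre.cohIn P X) :
    WSerre.cohIn P Y := fun i => P.prop_of_iso ((homologyFunctor A i).mapIso e) (h i)

lemma cohIn_single {M : A} (h : P M) (n : ℤ) : WSerre.cohIn P ((singleFunctor A n).obj M) := by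
  intro i
  by_cases hi : i = n
  · subst hi
    exact P.prop_of_iso ((singleFunctorCompHomologyFunctorIso A i).app M).symm h
  · refine P.prop_of_isZero ?_
    rcases lt_or_gt_of_ne hi with hi | hi
    · exact DerivedCategory.isZero_of_isGE _ n i hi
    · exact DerivedCategory.isZero_of_isLE _ n i hi

lemma cohIn_of_isZero {X : DerivedCategory A} (h : IsZero X) : WSerre.cohIn P X := fun i =>
  P.prop_of_isZero ((homologyFunctor A i).map_isZero h)

lemma cohIn_truncLT {X : DerivedCategory A} (h : WSerre.cohIn P X) (b : ℤ) :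
    WSerre.cohIn P ((TStructure.t.truncLT b).obj X) := by
  intro i
  by_cases hi : i < b
  · have := isIso_homology_truncLTι X b i hi
    exact P.prop_of_iso (asIso ((homologyFunctor A i).map ((TStructure.t.truncLTι b).app X))).symm (h i)
  · exact P.prop_of_isZero (isZero_homology_truncLT X b i (by omega))

lemma cohIn_truncGE {X : DerivedCategory A} (h : WSerre.cohIn P X) (b : ℤ) :
    WSerre.cohIn P ((TStructure.t.truncGE b).obj X) := by
  intro i
  by_cases hi : b ≤ i
  · have := isIso_homology_truncGEπ X b i hi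
    exact P.prop_of_iso (asIso ((homologyFunctor A i).map ((TStructure.t.truncGEπ b).app X))) (h i)
  · exact P.prop_of_isZero (isZero_homology_truncGE X b i (by omega))

section Functor

variable {B : Type u'} [Category.{v'} B] [Abelian B] [HasDerivedCategory.{w'} B]
  (Q : ObjectProperty B) [WSerre.IsWeakSerre Q]
  {Φ : DerivedCategory A ⥤ DerivedCategory B} [Φ.CommShift ℤ] [Φ.IsTriangulated]

lemma cohIn_map_bounded (h : ∀ M, P M → WSerre.cohIn Q (Φ.obj ((singleFunctor A 0).obj M))) (m : ℕ) :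
    ∀ (X : DerivedCategory A) (a : ℤ) [X.IsGE a] [X.IsLE (a + m)],
      WSerre.cohIn P X → WSerre.cohIn Q (Φ.obj X) := by
  induction m with
  | zero =>
    intro X a _ hLE hX
    have : X.IsLE a := by simpa using hLE
    refine cohIn_of_iso Q (Φ.mapIso (nonempty_iso_single X a).some).symm ?_
    refine cohIn_of_iso Q (Φ.mapIso (((singleFunctors A).shiftIso (-a) a 0 (by omega)).app
      ((homologyFunctor A a).obj X))) ?_
    exact cohIn_of_iso Q ((Φ.commShiftIso (-a)).app _).symm (cohIn_shift Q (h _ (hX a)) (-a))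
  | succ m ih =>
    intro X a hGE hLE hX
    obtain ⟨b, hb⟩ : ∃ b, b = a + (m + 1 : ℕ) := ⟨_, rfl⟩
    rw [← hb] at hLE
    refine cohIn_obj₂ Q (Φ.map_distinguished _ (TStructure.t.triangleLTGE_distinguished b X)) ?_ ?_
    · change WSerre.cohIn Q (Φ.obj ((TStructure.t.truncLT b).obj X))
      have : ((TStructure.t.truncLT b).obj X).IsLE (a + m) :=
        TStructure.t.isLE_truncLT_obj X b (a + m) (by omega)
      have : ((TStructure.t.truncLT b).obj X).IsGE a :=
        inferInstanceAs (TStructure.t.IsGE ((TStructure.t.truncLT b).obj X) a)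
      exact ih _ a (cohIn_truncLT P hX b)
    · change WSerre.cohIn Q (Φ.obj ((TStructure.t.truncGE b).obj X))
      have : ((TStructure.t.truncGE b).obj X).IsGE b :=
        inferInstanceAs (TStructure.t.IsGE ((TStructure.t.truncGE b).obj X) b)
      have : ((TStructure.t.truncGE b).obj X).IsLE b :=
        inferInstanceAs (TStructure.t.IsLE ((TStructure.t.truncGE b).obj X) b)
      refine cohIn_of_iso Q (Φ.mapIso (nonempty_iso_single ((TStructure.t.truncGE b).obj X) b).some).symm ?_
      refine cohIn_of_iso Q (Φ.mapIso (((singleFunctors A).shiftIso (-b) b 0 (by omega)).app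
        ((homologyFunctor A b).obj ((TStructure.t.truncGE b).obj X)))) ?_
      exact cohIn_of_iso Q ((Φ.commShiftIso (-b)).app _).symm
        (cohIn_shift Q (h _ (cohIn_truncGE P hX b b)) (-b))

/-- A left t-exact triangulated functor sending `P` to `D_Q` sends `D⁺_P` to `D_Q`. -/
theorem cohIn_map_of_isGE (hΦ : ∀ (X : DerivedCategory A) (n : ℤ) [X.IsGE n], (Φ.obj X).IsGE n)
    (h : ∀ M, P M → WSerre.cohIn Q (Φ.obj ((singleFunctor A 0).obj M)))
    (X : DerivedCategory A) (a : ℤ) [X.IsGE a] (hX : WSerre.cohIn P X) :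
    WSerre.cohIn Q (Φ.obj X) := by
  intro j
  obtain ⟨b, hab, hjb⟩ : ∃ b : ℤ, a < b ∧ j + 1 < b := ⟨max a (j + 1) + 1, by omega, by omega⟩
  have : ((TStructure.t.truncLT b).obj X).IsGE a :=
    inferInstanceAs (TStructure.t.IsGE ((TStructure.t.truncLT b).obj X) a)
  have : ((TStructure.t.truncLT b).obj X).IsLE (a + (b - 1 - a).toNat) :=
    TStructure.t.isLE_truncLT_obj X b _ (by omega)
  have h1 := cohIn_map_bounded P Q h (b - 1 - a).toNat _ a (cohIn_truncLT P hX b) j
  have h' : ((TStructure.t.truncGE b).obj X).IsGE b :=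
    inferInstanceAs (TStructure.t.IsGE ((TStructure.t.truncGE b).obj X) b)
  have := hΦ ((TStructure.t.truncGE b).obj X) b
  have h2 : IsIso ((homologyFunctor B j).map (Φ.map ((TStructure.t.truncLTι b).app X))) :=
    isIso_homology_mor₁ (Φ.map_distinguished _ (TStructure.t.triangleLTGE_distinguished b X)) j
      (DerivedCategory.isZero_of_isGE (Φ.obj ((TStructure.t.truncGE b).obj X)) b _ (by omega))
      (DerivedCategory.isZero_of_isGE (Φ.obj ((TStructure.t.truncGE b).obj X)) b _ (by omega))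
  exact Q.prop_of_iso (asIso ((homologyFunctor B j).map (Φ.map ((TStructure.t.truncLTι b).app X)))) h1

end Functor

end GrothLib.DerTrunc
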