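import Groth.Agent.Lib.DerCat.SeqColimit
import Groth.Agent.Lib.HoCat.Coproduct
import Mathlib.Algebra.Homology.HomotopyCategory.Acyclic
import Mathlib.Algebra.Homology.HomologySequence
import Mathlib.Algebra.Homology.HomologicalComplexAbelian
import Mathlib.Algebra.Homology.HomologicalComplexLimits
import Mathlib.Algebra.Homology.HomotopyCategory.MappingCone

/-! # Closure properties of acyclic complexes -/

set_option autoImplicit false
universe v u

open CategoryTheory CategoryTheory.Limits HomologicalComplex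

namespace GrothLib.DerCat

variable {A : Type u} [Category.{v} A] [Abelian A]

lemma acyclic_iff (K : CochainComplex A ℤ) : K.Acyclic ↔ ∀ i, IsZero (K.homology i) :=
  forall_congr' fun i => K.exactAt_iff_isZero_homology i

lemma acyclic_of_iso {K L : CochainComplex A ℤ} (e : K ≅ L) (h : K.Acyclic) : L.Acyclic :=
  fun i => (h i).of_iso e

lemma acyclic_iff_mem (K : CochainComplex A ℤ) :
    HomotopyCategory.subcategoryAcyclic A ((HomotopyCategory.quotient _ _).obj K) ↔ K.Acyclic :=
  HomotopyCategory.quotient_obj_mem_subcategoryAcyclic_iff_acyclic K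

lemma acyclic_shift {K : CochainComplex A ℤ} (h : K.Acyclic) (n : ℤ) : (K⟦n⟧).Acyclic :=
  (acyclic_iff_mem _).1 (ObjectProperty.prop_of_iso _
    (((HomotopyCategory.quotient A (ComplexShape.up ℤ)).commShiftIso n).app K).symm
    ((HomotopyCategory.subcategoryAcyclic A).le_shift n _ ((acyclic_iff_mem K).2 h)))

lemma acyclic_shift_iff {K : CochainComplex A ℤ} (n : ℤ) : (K⟦n⟧).Acyclic ↔ K.Acyclic :=
  ⟨fun h => acyclic_of_iso ((shiftFunctorCompIsoId _ n (-n) (by omega)).app K) (acyclic_shift h (-n)),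
    fun h => acyclic_shift h n⟩

/-- A morphism is a quasi-isomorphism iff its mapping cone is acyclic. -/
lemma quasiIso_iff_acyclic_mappingCone {K L : CochainComplex A ℤ} (f : K ⟶ L) :
    QuasiIso f ↔ (CochainComplex.mappingCone f).Acyclic := by
  rw [← acyclic_iff_mem, ← HomologicalComplex.mem_quasiIso_iff, ← HomotopyCategory.quotient_map_mem_quasiIso_iff,
    HomotopyCategory.quasiIso_eq_trW_subcategoryAcyclic]
  exact (HomotopyCategory.subcategoryAcyclic A).trW_iff_of_distinguished _
    (HomotopyCategory.mappingCone_triangleh_distinguished f)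

variable {S : ShortComplex (CochainComplex A ℤ)} (hS : S.ShortExact)

include hS

lemma acyclic_X₂ (h₁ : S.X₁.Acyclic) (h₃ : S.X₃.Acyclic) : S.X₂.Acyclic := fun i => by
  rw [exactAt_iff_isZero_homology]
  exact (hS.homology_exact₂ i).isZero_of_both_zeros
    (((exactAt_iff_isZero_homology _ i).1 (h₁ i)).eq_of_src _ _)
    (((exactAt_iff_isZero_homology _ i).1 (h₃ i)).eq_of_tgt _ _)

lemma acyclic_X₃ (h₁ : S.X₁.Acyclic) (h₂ : S.X₂.Acyclic) : S.X₃.Acyclic := fun i => by
  rw [exactAt_iff_isZero_homology]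
  exact (hS.homology_exact₃ i (i + 1) rfl).isZero_of_both_zeros
    (((exactAt_iff_isZero_homology _ i).1 (h₂ i)).eq_of_src _ _)
    (((exactAt_iff_isZero_homology _ (i + 1)).1 (h₁ (i + 1))).eq_of_tgt _ _)

lemma acyclic_X₁ (h₂ : S.X₂.Acyclic) (h₃ : S.X₃.Acyclic) : S.X₁.Acyclic := fun i => by
  rw [exactAt_iff_isZero_homology]
  exact (hS.homology_exact₁ (i - 1) i (show (i - 1) + 1 = i by omega)).isZero_of_both_zeros
    (((exactAt_iff_isZero_homology _ (i - 1)).1 (h₃ (i - 1))).eq_of_src _ _)
    (((exactAt_iff_isZero_homology _ i).1 (h₂ i)).eq_of_tgt _ _)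

omit hS

/-- A coproduct of acyclic complexes is acyclic. -/
lemma acyclic_sigma {J : Type*} [HasColimitsOfShape (Discrete J) A] [HasExactColimitsOfShape (Discrete J) A]
    (K : J → CochainComplex A ℤ) (h : ∀ j, (K j).Acyclic) : (∐ K).Acyclic :=
  fun i => HoCat.exactAt_sigma K i fun j => h j i

variable [HasColimitsOfShape ℕ A] [HasExactColimitsOfShape ℕ A]
  [HasColimitsOfShape (Discrete ℕ) A]

/-- The telescope of a sequence of complexes is short exact. -/
theorem shortExact_telescope (L : ℕ ⥤ CochainComplex A ℤ)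
    {w : (𝟙 (∐ L.obj) - DerLim.shiftMap L.obj (fun n => L.map (homOfLE (Nat.le_succ n)))) ≫
      Sigma.desc (fun n => colimit.ι L n) = 0} :
    (ShortComplex.mk _ _ w).ShortExact := by
  let f : ∀ n, L.obj n ⟶ L.obj (n + 1) := fun n => L.map (homOfLE (Nat.le_succ n))
  let S := ShortComplex.mk _ _ w
  refine HomologicalComplex.shortExact_of_degreewise_shortExact _ fun i => ?_
  let E := HomologicalComplex.eval A (ComplexShape.up ℤ) i
  let F := L ⋙ E
  have : HasCoproduct (fun j => E.obj (L.obj j)) := inferInstance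
  have : HasCoproduct F.obj := this
  let e₁ : E.obj (∐ L.obj) ≅ ∐ F.obj := PreservesCoproduct.iso E L.obj
  let e₃ : E.obj (colimit L) ≅ colimit F := preservesColimitIso E L
  have hι : ∀ n, Sigma.ι F.obj n ≫ e₁.inv = E.map (Sigma.ι L.obj n) :=
    fun n => ι_comp_sigmaComparison E L.obj n
  have hι₃ : ∀ n, colimit.ι F n ≫ e₃.inv = E.map (colimit.ι L n) :=
    fun n => ι_preservesColimitIso_inv E L n
  refine ShortComplex.shortExact_of_iso
    (ShortComplex.isoMk (S₁ := ShortComplex.mk _ _ (telescope_comp F)) (S₂ := S.map E)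
      e₁.symm e₁.symm e₃.symm ?_ ?_) (telescope_shortExact F)
  · change e₁.inv ≫ E.map (𝟙 (∐ L.obj) - DerLim.shiftMap L.obj f) =
      (𝟙 _ - DerLim.shiftMap F.obj (fun n => F.map (homOfLE (Nat.le_succ n)))) ≫ e₁.inv
    refine Sigma.hom_ext _ _ fun n => ?_
    erw [reassoc_of% hι, ← E.map_comp]
    rw [Preadditive.sub_comp, Category.id_comp,
      Preadditive.comp_sub, Preadditive.comp_sub, Category.comp_id, DerLim.shiftMap, DerLim.shiftMap,
      Sigma.ι_desc, Sigma.ι_desc_assoc, hι, Category.assoc, hι, E.map_sub, E.map_comp]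
    rfl
  · change e₁.inv ≫ E.map (Sigma.desc (fun n => colimit.ι L n)) =
      Sigma.desc (fun n => colimit.ι F n) ≫ e₃.inv
    refine Sigma.hom_ext _ _ fun n => ?_
    erw [reassoc_of% hι, ← E.map_comp]
    rw [Sigma.ι_desc, Sigma.ι_desc_assoc]
    exact (hι₃ n).symm

/-- A sequential colimit of acyclic complexes is acyclic. -/
lemma acyclic_colimit [HasExactColimitsOfShape (Discrete ℕ) A] (L : ℕ ⥤ CochainComplex A ℤ)
    (h : ∀ n, (L.obj n).Acyclic) : (colimit L).Acyclic := by
  have w : (𝟙 (∐ L.obj) - DerLim.shiftMap L.obj (fun n => L.map (homOfLE (Nat.le_succ n)))) ≫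
      Sigma.desc (fun n => colimit.ι L n) = 0 := by
    refine Sigma.hom_ext _ _ fun n => ?_
    rw [← Category.assoc, Preadditive.comp_sub, Category.comp_id, DerLim.shiftMap, Sigma.ι_desc,
      Preadditive.sub_comp, Category.assoc, Sigma.ι_desc, Sigma.ι_desc, colimit.w, sub_self, comp_zero]
  exact acyclic_X₃ (shortExact_telescope L (w := w)) (acyclic_sigma _ h) (acyclic_sigma _ h)

end GrothLib.DerCat
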