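import Groth.Agent.Lib.TriCat.ThickProp
import Mathlib.Algebra.Homology.DerivedCategory.SingleTriangle
import Mathlib.Algebra.Homology.HomologicalComplexAbelian
import Mathlib.Algebra.Homology.HomologicalComplexLimits

/-! # Bounded complexes are built from their terms -/

set_option autoImplicit false

universe w v u

open CategoryTheory CategoryTheory.Limits CategoryTheory.Pretriangulated HomologicalComplex

namespace GrothLib.DerCat

variable {A : Type u} [Category.{v} A] [Abelian A] [HasDerivedCategory.{w} A]

theorem prop_Q_of_bounded {P : DerivedCategory A → Prop} (hP : TriCat.Thick P) :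
    ∀ (m : ℕ) (E : CochainComplex A ℤ) (a : ℤ), (∀ i : ℤ, i < a ∨ a + m ≤ i → IsZero (E.X i)) →
      (∀ i, P ((DerivedCategory.singleFunctor A i).obj (E.X i))) → P (DerivedCategory.Q.obj E)
  | 0, E, a, hE, _ => by
    refine hP.zero (DerivedCategory.Q.map_isZero ?_)
    rw [IsZero.iff_id_eq_zero]
    ext i
    exact (hE i (by omega)).eq_of_src _ _
  | m + 1, E, a, hE, hX => by
    let p : E ⟶ (single A (ComplexShape.up ℤ) a).obj (E.X a) :=
      mkHomToSingle (𝟙 _) fun i hi => (hE i (Or.inl (by simp at hi; omega))).eq_of_src _ _
    have hp : p.f a = (singleObjXSelf (ComplexShape.up ℤ) a (E.X a)).inv := by simp [p]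
    have : Epi p := by
      refine @epi_of_epi_f _ _ _ _ _ _ _ p fun i => ?_
      by_cases h : i = a
      · subst h; rw [hp]; infer_instance
      · exact ⟨fun g g' _ => (isZero_single_obj_X _ _ _ _ h).eq_of_src g g'⟩
    let S : ShortComplex (CochainComplex A ℤ) := ShortComplex.mk (kernel.ι p) p (kernel.condition p)
    have hS : S.ShortExact := { exact := ShortComplex.exact_kernel p }
    refine hP.ext₂ _ (DerivedCategory.triangleOfSES_distinguished hS) ?_ ?_
    · let e : ∀ i, (kernel p).X i ≅ kernel (p.f i) := fun i =>
        PreservesKernel.iso (eval A (ComplexShape.up ℤ) i) p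
      have hz : IsZero ((kernel p).X a) := by
        have : IsIso (p.f a) := by rw [hp]; infer_instance
        exact (isZero_kernel_of_mono (p.f a)).of_iso (e a)
      have hK : ∀ i, i ≠ a → Nonempty ((kernel p).X i ≅ E.X i) := fun i hi => by
        have h0 : p.f i = 0 := (isZero_single_obj_X _ _ _ _ hi).eq_of_tgt _ _
        exact ⟨e i ≪≫ eqToIso (by rw [h0]) ≪≫ kernelZeroIsoSource⟩
      refine prop_Q_of_bounded hP m (kernel p) (a + 1) (fun i hi => ?_) (fun i => ?_)
      · rcases eq_or_ne i a with rfl | h
        · exact hz
        · obtain ⟨ei⟩ := hK i h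
          exact (hE i (by omega)).of_iso ei
      · rcases eq_or_ne i a with rfl | h
        · exact hP.zero ((DerivedCategory.singleFunctor A i).map_isZero hz)
        · obtain ⟨ei⟩ := hK i h
          exact hP.of_iso ((DerivedCategory.singleFunctor A i).mapIso ei).symm (hX i)
    · exact hP.of_iso (((SingleFunctors.evaluation _ _ a).mapIso
        (DerivedCategory.singleFunctorsPostcompQIso A)).app (E.X a)) (hX a)

end GrothLib.DerCat
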