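import Groth.Agent.Lib.DerCat.Acyclic

/-! # Homology of coproducts and of sequential colimits -/

set_option autoImplicit false
universe v u

open CategoryTheory CategoryTheory.Limits HomologicalComplex

namespace GrothLib.DerCat

variable {A : Type u} [Category.{v} A] [Abelian A] {J : Type*}
  [HasColimitsOfShape (Discrete J) A] [HasExactColimitsOfShape (Discrete J) A]
  (K : J → CochainComplex A ℤ) (i : ℤ)

/-- The homology in degree `i` of a coproduct is jointly generated by the summands. -/
theorem homology_sigma_hom_ext {W : A} (g : (∐ K).homology i ⟶ W)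
    (h : ∀ j, homologyMap (Sigma.ι K j) i ≫ g = 0) : g = 0 := by
  let c := ComplexShape.up ℤ
  let F := Discrete.functor K
  let d : ∀ k k', F ⋙ eval A c k ⟶ F ⋙ eval A c k' := fun k k' =>
    Discrete.natTrans fun j => (F.obj j).d k k'
  let S : ShortComplex (Discrete J ⥤ A) := ShortComplex.mk (d (c.prev i) i) (d i (c.next i))
    (by ext j; exact (F.obj j).d_comp_d _ _ _)
  let e : S.map (colim (J := Discrete J) (C := A)) ≅ (∐ K).sc i :=
    ShortComplex.isoMk (preservesColimitIso (eval A c (c.prev i)) F).symm
      (preservesColimitIso (eval A c i) F).symm (preservesColimitIso (eval A c (c.next i)) F).symm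
      (by
        refine colimit.hom_ext fun j => ?_
        simp only [Iso.symm_hom, ShortComplex.map_f, S]
        erw [ι_preservesColimitIso_inv_assoc]
        erw [ι_colimMap_assoc]
        erw [ι_preservesColimitIso_inv]
        simp [d]
        exact (colimit.ι F j).comm _ _)
      (by
        refine colimit.hom_ext fun j => ?_
        simp only [Iso.symm_hom, ShortComplex.map_g, S]
        erw [ι_preservesColimitIso_inv_assoc]
        erw [ι_colimMap_assoc]
        erw [ι_preservesColimitIso_inv]
        simp [d]
        exact (colimit.ι F j).comm _ _)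
  have hH : ShortComplex.homologyMap e.hom ≫ g = 0 := by
    rw [← cancel_epi (S.mapHomologyIso colim).inv]
    refine (colimit.hom_ext fun j => ?_)
    let τ : (evaluation (Discrete J) A).obj j ⟶ colim :=
      { app := fun G => colimit.ι G j
        naturality := fun G G' φ => (ι_colimMap φ j).symm }
    let e' : (K j.as).sc i ≅ S.map ((evaluation (Discrete J) A).obj j) :=
      ShortComplex.isoMk (Iso.refl _) (Iso.refl _) (Iso.refl _)
        ((Category.id_comp _).trans (Category.comp_id _).symm)
        ((Category.id_comp _).trans (Category.comp_id _).symm)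
    have hkey : e'.hom ≫ S.mapNatTrans τ ≫ e.hom =
        (shortComplexFunctor A c i).map (Sigma.ι K j.as) := by
      refine ShortComplex.hom_ext _ _ ?_ ?_ ?_ <;>
      · simp [e, e', τ]
        erw [Category.id_comp]
        exact ι_preservesColimitIso_inv _ _ _
    have h0 : ShortComplex.homologyMap (e'.hom ≫ S.mapNatTrans τ ≫ e.hom) ≫ g = 0 := by
      rw [hkey]
      exact h j.as
    rw [ShortComplex.homologyMap_comp, ShortComplex.homologyMap_comp, Category.assoc,
      ← cancel_epi (inv (ShortComplex.homologyMap e'.hom)), IsIso.inv_hom_id_assoc, comp_zero,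
      ShortComplex.homologyMap_mapNatTrans, Category.assoc, Category.assoc, Category.assoc,
      ← cancel_epi (S.mapHomologyIso ((evaluation (Discrete J) A).obj j)).inv, Iso.inv_hom_id_assoc,
      comp_zero] at h0
    rw [comp_zero, comp_zero]
    exact h0
  exact (cancel_epi (ShortComplex.homologyMap e.hom)).1 (hH.trans comp_zero.symm)

variable [HasColimitsOfShape ℕ A] [HasExactColimitsOfShape ℕ A]
  [HasColimitsOfShape (Discrete ℕ) A] [HasExactColimitsOfShape (Discrete ℕ) A]

/-- A sequential colimit along maps vanishing on homology is acyclic. -/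
theorem acyclic_colimit_of_homologyMap_eq_zero (L : ℕ ⥤ CochainComplex A ℤ)
    (h : ∀ n i, homologyMap (L.map (homOfLE (Nat.le_succ n))) i = 0) : (colimit L).Acyclic := by
  let f : ∀ n, L.obj n ⟶ L.obj (n + 1) := fun n => L.map (homOfLE (Nat.le_succ n))
  have w : (𝟙 (∐ L.obj) - DerLim.shiftMap L.obj f) ≫ Sigma.desc (fun n => colimit.ι L n) = 0 := by
    refine Sigma.hom_ext _ _ fun n => ?_
    rw [← Category.assoc, Preadditive.comp_sub, Category.comp_id, DerLim.shiftMap, Sigma.ι_desc,
      Preadditive.sub_comp, Category.assoc, Sigma.ι_desc, Sigma.ι_desc]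
    simp only [f]
    rw [colimit.w, sub_self, comp_zero]
  have hS : (ShortComplex.mk _ _ w).ShortExact := shortExact_telescope L
  have hiso : ∀ i, IsIso (homologyMap (𝟙 (∐ L.obj) - DerLim.shiftMap L.obj f) i) := fun i => by
    have hz : homologyMap (DerLim.shiftMap L.obj f) i = 0 := homology_sigma_hom_ext _ i _ fun n => by
      rw [← homologyMap_comp, DerLim.shiftMap, Sigma.ι_desc, homologyMap_comp]
      exact (congrArg (· ≫ _) (h n i)).trans zero_comp
    rw [sub_eq_add_neg, homologyMap_add, homologyMap_neg, hz, neg_zero, add_zero, homologyMap_id]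
    infer_instance
  intro i
  rw [exactAt_iff_isZero_homology]
  refine (hS.homology_exact₃ i (i + 1) rfl).isZero_of_both_zeros ?_ ?_
  · have := hiso i
    have h2 := (ShortComplex.mk _ _ w).map (homologyFunctor A (ComplexShape.up ℤ) i) |>.zero
    exact (cancel_epi (homologyMap (𝟙 (∐ L.obj) - DerLim.shiftMap L.obj f) i)).1 (h2.trans comp_zero.symm)
  · have := hiso (i + 1)
    exact (cancel_mono (homologyMap (𝟙 (∐ L.obj) - DerLim.shiftMap L.obj f) (i + 1))).1
      ((hS.δ_comp i (i + 1) rfl).trans zero_comp.symm)

end GrothLib.DerCat
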