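import Groth.Agent.Lib.DerCat.HomologyCoproduct

/-! # Homology of colimits along exact colimit functors -/

set_option autoImplicit false
universe w w' v u

open CategoryTheory CategoryTheory.Limits HomologicalComplex

namespace GrothLib.DerCat

variable {A : Type u} [Category.{v} A] [Abelian A] {J : Type w} [Category.{w'} J]
  [HasColimitsOfShape J A] [HasExactColimitsOfShape J A]

/-- The homology of a colimit is the colimit of a diagram of the homologies. -/
theorem exists_colimit_homology (L : J ⥤ CochainComplex A ℤ) (i : ℤ) :
    ∃ G : J ⥤ A, (∀ j, Nonempty (G.obj j ≅ (L.obj j).homology i)) ∧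
      Nonempty (colimit G ≅ (colimit L).homology i) := by
  let c := ComplexShape.up ℤ
  let d : ∀ k k', L ⋙ eval A c k ⟶ L ⋙ eval A c k' := fun k k' =>
    { app := fun j => (L.obj j).d k k'
      naturality := fun j j' a => (L.map a).comm k k' }
  let S : ShortComplex (J ⥤ A) := ShortComplex.mk (d (c.prev i) i) (d i (c.next i))
    (by ext j; exact (L.obj j).d_comp_d _ _ _)
  let e : S.map (colim (J := J) (C := A)) ≅ (colimit L).sc i :=
    ShortComplex.isoMk (preservesColimitIso (eval A c (c.prev i)) L).symm
      (preservesColimitIso (eval A c i) L).symm (preservesColimitIso (eval A c (c.next i)) L).symm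
      (by
        refine colimit.hom_ext fun j => ?_
        simp only [Iso.symm_hom, ShortComplex.map_f, S]
        erw [ι_preservesColimitIso_inv_assoc]
        erw [ι_colimMap_assoc]
        erw [ι_preservesColimitIso_inv]
        simp [d]
        exact (colimit.ι L j).comm _ _)
      (by
        refine colimit.hom_ext fun j => ?_
        simp only [Iso.symm_hom, ShortComplex.map_g, S]
        erw [ι_preservesColimitIso_inv_assoc]
        erw [ι_colimMap_assoc]
        erw [ι_preservesColimitIso_inv]
        simp [d]
        exact (colimit.ι L j).comm _ _)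
  refine ⟨S.homology, fun j => ⟨(S.mapHomologyIso ((evaluation J A).obj j)).symm ≪≫
    ShortComplex.homologyMapIso (ShortComplex.isoMk (Iso.refl _) (Iso.refl _) (Iso.refl _)
        ((Category.id_comp _).trans (Category.comp_id _).symm)
        ((Category.id_comp _).trans (Category.comp_id _).symm))⟩,
    ⟨(S.mapHomologyIso colim).symm ≪≫ ShortComplex.homologyMapIso e⟩⟩

end GrothLib.DerCat
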