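import Mathlib.Algebra.Homology.DerivedCategory.TStructure
import Mathlib.Algebra.Homology.DerivedCategory.ExactFunctor
import Mathlib.Algebra.Homology.DerivedCategory.FullyFaithful
import Mathlib.CategoryTheory.Triangulated.TStructure.TruncLEGT
import Mathlib.CategoryTheory.Triangulated.Adjunction
import Mathlib.CategoryTheory.Adjunction.Additive

/-! # Cohomology of truncations, exact functors, dévissage for natural transformations -/

universe w w' v v' u u'

open CategoryTheory Limits Pretriangulated DerivedCategory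

namespace GrothLib.DerTrunc

variable {A : Type u} [Category.{v} A] [Abelian A] [HasDerivedCategory.{w} A]

local notation "τ" => (DerivedCategory.TStructure.t : Triangulated.TStructure (DerivedCategory A))

lemma isZero_homology_truncLT (X : DerivedCategory A) (b i : ℤ) (h : b ≤ i) :
    IsZero ((homologyFunctor A i).obj ((TStructure.t.truncLT b).obj X)) :=
  have : ((TStructure.t.truncLT b).obj X).IsLE (b - 1) :=
    inferInstanceAs (TStructure.t.IsLE ((TStructure.t.truncLT b).obj X) (b - 1))
  isZero_of_isLE _ (b - 1) i (by omega)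

lemma isZero_homology_truncGE (X : DerivedCategory A) (b i : ℤ) (h : i < b) :
    IsZero ((homologyFunctor A i).obj ((TStructure.t.truncGE b).obj X)) :=
  have : ((TStructure.t.truncGE b).obj X).IsGE b :=
    inferInstanceAs (TStructure.t.IsGE ((TStructure.t.truncGE b).obj X) b)
  isZero_of_isGE _ b i h

lemma isIso_homology_mor₁ {T : Triangle (DerivedCategory A)} (hT : T ∈ distTriang _) (i : ℤ)
    (h₁ : IsZero ((homologyFunctor A (i - 1)).obj T.obj₃))
    (h₂ : IsZero ((homologyFunctor A i).obj T.obj₃)) :
    IsIso ((homologyFunctor A i).map T.mor₁) := by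
  have : Mono ((homologyFunctor A i).map T.mor₁) :=
    (HomologySequence.mono_homologyMap_mor₁_iff _ hT (i - 1) i (by omega)).2 (h₁.eq_of_src _ _)
  have : Epi ((homologyFunctor A i).map T.mor₁) :=
    (HomologySequence.epi_homologyMap_mor₁_iff _ hT i).2 (h₂.eq_of_tgt _ _)
  exact isIso_of_mono_of_epi _

lemma isIso_homology_mor₂ {T : Triangle (DerivedCategory A)} (hT : T ∈ distTriang _) (i : ℤ)
    (h₁ : IsZero ((homologyFunctor A i).obj T.obj₁))
    (h₂ : IsZero ((homologyFunctor A (i + 1)).obj T.obj₁)) :
    IsIso ((homologyFunctor A i).map T.mor₂) := by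
  have : Mono ((homologyFunctor A i).map T.mor₂) :=
    (HomologySequence.mono_homologyMap_mor₂_iff _ hT i).2 (h₁.eq_of_src _ _)
  have : Epi ((homologyFunctor A i).map T.mor₂) :=
    (HomologySequence.epi_homologyMap_mor₂_iff _ hT i (i + 1) rfl).2 (h₂.eq_of_tgt _ _)
  exact isIso_of_mono_of_epi _

lemma isIso_homology_truncGEπ (X : DerivedCategory A) (b i : ℤ) (h : b ≤ i) :
    IsIso ((homologyFunctor A i).map ((TStructure.t.truncGEπ b).app X)) :=
  isIso_homology_mor₂ (TStructure.t.triangleLTGE_distinguished b X) i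
    (isZero_homology_truncLT X b i h) (isZero_homology_truncLT X b (i + 1) (by omega))

lemma isIso_homology_truncLTι (X : DerivedCategory A) (b i : ℤ) (h : i < b) :
    IsIso ((homologyFunctor A i).map ((TStructure.t.truncLTι b).app X)) :=
  isIso_homology_mor₁ (TStructure.t.triangleLTGE_distinguished b X) i
    (isZero_homology_truncGE X b (i - 1) (by omega)) (isZero_homology_truncGE X b i h)

lemma isZero_of_forall (X : DerivedCategory A) (h : ∀ i, IsZero ((homologyFunctor A i).obj X)) :
    IsZero X := by
  have : IsIso (0 : X ⟶ X) := (DerivedCategory.isIso_iff _ _).2 fun i =>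
    ⟨0, (h i).eq_of_src _ _, (h i).eq_of_src _ _⟩
  exact (IsZero.iff_id_eq_zero X).2 (by rw [← IsIso.hom_inv_id (0 : X ⟶ X), zero_comp])

/-- An object concentrated in one degree is its cohomology. -/
lemma nonempty_iso_single (X : DerivedCategory A) (n : ℤ) [X.IsGE n] [X.IsLE n] :
    Nonempty (X ≅ (singleFunctor A n).obj ((homologyFunctor A n).obj X)) := by
  obtain ⟨Y, ⟨e⟩⟩ := exists_iso_singleFunctor_obj_of_isGE_of_isLE X n
  exact ⟨e ≪≫ (singleFunctor A n).mapIso (((homologyFunctor A n).mapIso e ≪≫
    (singleFunctorCompHomologyFunctorIso A n).app Y).symm)⟩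

lemma exists_isGE_of_plus {X : DerivedCategory A}
    (h : (TStructure.t : Triangulated.TStructure (DerivedCategory A)).plus X) :
    ∃ n, X.IsGE n := h

section Functor

variable {B : Type u'} [Category.{v'} B] [Abelian B] [HasDerivedCategory.{w'} B]

variable (F : A ⥤ B) [F.Additive] [PreservesFiniteLimits F] [PreservesFiniteColimits F]

lemma nonempty_homology_mapDerivedCategory (X : DerivedCategory A) (i : ℤ) :
    Nonempty ((homologyFunctor B i).obj (F.mapDerivedCategory.obj X) ≅
      F.obj ((homologyFunctor A i).obj X)) := by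
  let K := DerivedCategory.Q.objPreimage X
  let e : Q.obj K ≅ X := Q.objObjPreimageIso X
  exact ⟨(homologyFunctor B i).mapIso (F.mapDerivedCategory.mapIso e.symm ≪≫
      F.mapDerivedCategoryFactors.app K) ≪≫ (homologyFunctorFactors B i).app _ ≪≫
    (K.sc i).mapHomologyIso F ≪≫
    F.mapIso ((homologyFunctorFactors A i).app K).symm ≪≫
    F.mapIso ((homologyFunctor A i).mapIso e)⟩

lemma isGE_mapDerivedCategory (X : DerivedCategory A) (n : ℤ) [X.IsGE n] :
    (F.mapDerivedCategory.obj X).IsGE n :=
  (DerivedCategory.isGE_iff _ n).2 fun i hi =>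
    (F.map_isZero (DerivedCategory.isZero_of_isGE X n i hi)).of_iso
      (nonempty_homology_mapDerivedCategory F X i).some

lemma isLE_mapDerivedCategory (X : DerivedCategory A) (n : ℤ) [X.IsLE n] :
    (F.mapDerivedCategory.obj X).IsLE n :=
  (DerivedCategory.isLE_iff _ n).2 fun i hi =>
    (F.map_isZero (DerivedCategory.isZero_of_isLE X n i hi)).of_iso
      (nonempty_homology_mapDerivedCategory F X i).some

variable {F}

/-- The right adjoint of a derived exact functor is left t-exact. -/
lemma isGE_rightAdjoint {G : DerivedCategory B ⥤ DerivedCategory A}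
    (adj : F.mapDerivedCategory ⊣ G) (X : DerivedCategory B) (n : ℤ) [X.IsGE n] :
    (G.obj X).IsGE n := by
  change TStructure.t.IsGE (G.obj X) n
  rw [Triangulated.TStructure.isGE_iff_isZero_truncLT_obj]
  set Z := (TStructure.t.truncLT n).obj (G.obj X)
  have hZ : TStructure.t.IsLE Z (n - 1) := inferInstanceAs (TStructure.t.IsLE
    ((TStructure.t.truncLT n).obj (G.obj X)) (n - 1))
  have : (F.mapDerivedCategory.obj Z).IsLE (n - 1) := isLE_mapDerivedCategory F Z (n - 1)
  have h0 : (TStructure.t.truncLTι n).app (G.obj X) = 0 := by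
    apply (adj.homEquiv _ _).symm.injective
    have h1 := fun g : F.mapDerivedCategory.obj Z ⟶ X =>
      (TStructure.t (C := B)).zero_of_isLE_of_isGE g (n - 1) n (by omega) inferInstance inferInstance
    exact (h1 _).trans (h1 _).symm
  rw [IsZero.iff_id_eq_zero]
  apply TStructure.t.to_truncLT_obj_ext
  rw [h0, comp_zero, comp_zero]

end Functor

section NatTrans

variable {B : Type u'} [Category.{v'} B] [Abelian B] [HasDerivedCategory.{w'} B]
  {Φ Ψ : DerivedCategory A ⥤ DerivedCategory B} [Φ.CommShift ℤ] [Ψ.CommShift ℤ]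
  [Φ.IsTriangulated] [Ψ.IsTriangulated] (η : Φ ⟶ Ψ) [NatTrans.CommShift η ℤ]

lemma isIso_app₂ {T : Triangle (DerivedCategory A)} (hT : T ∈ distTriang _)
    (h₁ : IsIso (η.app T.obj₁)) (h₃ : IsIso (η.app T.obj₃)) : IsIso (η.app T.obj₂) := by
  let φ : Φ.mapTriangle.obj T ⟶ Ψ.mapTriangle.obj T :=
    { hom₁ := η.app _
      hom₂ := η.app _
      hom₃ := η.app _
      comm₁ := η.naturality _
      comm₂ := η.naturality _
      comm₃ := by
        change (Φ.map T.mor₃ ≫ (Φ.commShiftIso (1 : ℤ)).hom.app T.obj₁) ≫ (η.app _)⟦(1 : ℤ)⟧' =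
          η.app _ ≫ Ψ.map T.mor₃ ≫ (Ψ.commShiftIso (1 : ℤ)).hom.app T.obj₁
        rw [Category.assoc, NatTrans.shift_app_comm, η.naturality_assoc] }
  exact isIso₂_of_isIso₁₃ φ (Φ.map_distinguished _ hT) (Ψ.map_distinguished _ hT) h₁ h₃

omit [Φ.IsTriangulated] [Ψ.IsTriangulated] in
lemma isIso_app_shift (X : DerivedCategory A) (a : ℤ) (h : IsIso (η.app X)) :
    IsIso (η.app (X⟦a⟧)) := by
  rw [NatTrans.app_shift η a X]
  infer_instance

omit [Φ.IsTriangulated] [Ψ.IsTriangulated] [NatTrans.CommShift η ℤ] [Φ.CommShift ℤ]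
  [Ψ.CommShift ℤ] in
lemma isIso_app_of_iso {X Y : DerivedCategory A} (e : X ≅ Y) (h : IsIso (η.app X)) :
    IsIso (η.app Y) :=
  (NatTrans.isIso_app_iff_of_iso η e).1 h

omit [Φ.IsTriangulated] [Ψ.IsTriangulated] in
lemma isIso_app_single {M : A} (h : IsIso (η.app ((singleFunctor A 0).obj M))) (q : ℤ) :
    IsIso (η.app ((singleFunctor A q).obj M)) :=
  isIso_app_of_iso η (((singleFunctors A).shiftIso (-q) q 0 (by omega)).app M)
    (isIso_app_shift η _ (-q) h)

/-- Dévissage on bounded objects. -/
lemma isIso_app_of_bounded (m : ℕ) : ∀ (X : DerivedCategory A) (a : ℤ) [X.IsGE a] [X.IsLE (a + m)],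
    (∀ q, a ≤ q → IsIso (η.app ((singleFunctor A 0).obj ((homologyFunctor A q).obj X)))) →
      IsIso (η.app X) := by
  induction m with
  | zero =>
    intro X a _ hLE h
    have : X.IsLE a := by simpa using hLE
    exact isIso_app_of_iso η (nonempty_iso_single X a).some.symm (isIso_app_single η (h a le_rfl) a)
  | succ m ih =>
    intro X a hGE hLE h
    obtain ⟨b, hb⟩ : ∃ b, b = a + (m + 1 : ℕ) := ⟨_, rfl⟩
    rw [← hb] at hLE
    refine isIso_app₂ η (TStructure.t.triangleLTGE_distinguished b X) ?_ ?_
    · change IsIso (η.app ((TStructure.t.truncLT b).obj X))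
      have : ((TStructure.t.truncLT b).obj X).IsLE (a + m) :=
        TStructure.t.isLE_truncLT_obj X b (a + m) (by omega)
      have : ((TStructure.t.truncLT b).obj X).IsGE a :=
        inferInstanceAs (TStructure.t.IsGE ((TStructure.t.truncLT b).obj X) a)
      refine ih _ a fun q hq => ?_
      by_cases hqb : q < b
      · have := isIso_homology_truncLTι X b q hqb
        exact isIso_app_of_iso η ((singleFunctor A 0).mapIso
          (asIso ((homologyFunctor A q).map ((TStructure.t.truncLTι b).app X))).symm) (h q hq)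
      · have hz := (singleFunctor A 0).map_isZero (isZero_homology_truncLT X b q (by omega))
        exact ⟨0, (Φ.map_isZero hz).eq_of_src _ _, (Ψ.map_isZero hz).eq_of_src _ _⟩
    · change IsIso (η.app ((TStructure.t.truncGE b).obj X))
      have : ((TStructure.t.truncGE b).obj X).IsGE b :=
        inferInstanceAs (TStructure.t.IsGE ((TStructure.t.truncGE b).obj X) b)
      have : ((TStructure.t.truncGE b).obj X).IsLE b :=
        inferInstanceAs (TStructure.t.IsLE ((TStructure.t.truncGE b).obj X) b)
      have := isIso_homology_truncGEπ X b b le_rfl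
      refine isIso_app_of_iso η (nonempty_iso_single ((TStructure.t.truncGE b).obj X) b).some.symm
        (isIso_app_single η ?_ b)
      exact isIso_app_of_iso η ((singleFunctor A 0).mapIso
        (asIso ((homologyFunctor A b).map ((TStructure.t.truncGEπ b).app X)))) (h b (by omega))

/-- Dévissage on bounded below objects, for left t-exact functors. -/
theorem isIso_app_of_isGE
    (hΦ : ∀ (X : DerivedCategory A) (n : ℤ) [X.IsGE n], (Φ.obj X).IsGE n)
    (hΨ : ∀ (X : DerivedCategory A) (n : ℤ) [X.IsGE n], (Ψ.obj X).IsGE n)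
    (X : DerivedCategory A) (a : ℤ) [X.IsGE a]
    (h : ∀ q, IsIso (η.app ((singleFunctor A 0).obj ((homologyFunctor A q).obj X)))) :
    IsIso (η.app X) := by
  rw [DerivedCategory.isIso_iff]
  intro j
  obtain ⟨b, hab, hjb⟩ : ∃ b : ℤ, a < b ∧ j + 1 < b := ⟨max a (j + 1) + 1, by omega, by omega⟩
  have : ((TStructure.t.truncLT b).obj X).IsGE a :=
    inferInstanceAs (TStructure.t.IsGE ((TStructure.t.truncLT b).obj X) a)
  have : ((TStructure.t.truncLT b).obj X).IsLE (a + (b - 1 - a).toNat) :=
    TStructure.t.isLE_truncLT_obj X b _ (by omega)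
  have : IsIso (η.app ((TStructure.t.truncLT b).obj X)) := by
    refine isIso_app_of_bounded η (b - 1 - a).toNat _ a fun q hq => ?_
    by_cases hqb : q < b
    · have := isIso_homology_truncLTι X b q hqb
      exact isIso_app_of_iso η ((singleFunctor A 0).mapIso
        (asIso ((homologyFunctor A q).map ((TStructure.t.truncLTι b).app X))).symm) (h q)
    · have hz := (singleFunctor A 0).map_isZero (isZero_homology_truncLT X b q (by omega))
      exact ⟨0, (Φ.map_isZero hz).eq_of_src _ _, (Ψ.map_isZero hz).eq_of_src _ _⟩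
  have key : ∀ (G : DerivedCategory A ⥤ DerivedCategory B) [G.CommShift ℤ] [G.IsTriangulated],
      (∀ (X : DerivedCategory A) (n : ℤ) [X.IsGE n], (G.obj X).IsGE n) →
      IsIso ((homologyFunctor B j).map (G.map ((TStructure.t.truncLTι b).app X))) := by
    intro G _ _ hG
    have h' : ((TStructure.t.truncGE b).obj X).IsGE b :=
      inferInstanceAs (TStructure.t.IsGE ((TStructure.t.truncGE b).obj X) b)
    have := hG ((TStructure.t.truncGE b).obj X) b
    exact isIso_homology_mor₁ (G.map_distinguished _ (TStructure.t.triangleLTGE_distinguished b X)) j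
      (DerivedCategory.isZero_of_isGE (G.obj ((TStructure.t.truncGE b).obj X)) b _ (by omega))
      (DerivedCategory.isZero_of_isGE (G.obj ((TStructure.t.truncGE b).obj X)) b _ (by omega))
  have h1 := key Φ hΦ
  have h2 := key Ψ hΨ
  have e := congrArg (homologyFunctor B j).map (η.naturality ((TStructure.t.truncLTι b).app X))
  rw [Functor.map_comp, Functor.map_comp] at e
  have : IsIso ((homologyFunctor B j).map (Φ.map ((TStructure.t.truncLTι b).app X)) ≫
      (homologyFunctor B j).map (η.app X)) := by
    erw [e]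
    exact IsIso.comp_isIso
  exact IsIso.of_isIso_comp_left ((homologyFunctor B j).map (Φ.map ((TStructure.t.truncLTι b).app X))) _

end NatTrans

section Adjunction

variable {B : Type u'} [Category.{v'} B] [Abelian B] [HasDerivedCategory.{w'} B]
  {F : A ⥤ B} [F.Additive] [PreservesFiniteLimits F] [PreservesFiniteColimits F]
  {G : DerivedCategory B ⥤ DerivedCategory A} (adj : F.mapDerivedCategory ⊣ G)

theorem isIso_unit_of_isGE (Y : DerivedCategory A) (a : ℤ) [Y.IsGE a]
    (h : ∀ q, IsIso (adj.unit.app ((singleFunctor A 0).obj ((homologyFunctor A q).obj Y)))) :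
    IsIso (adj.unit.app Y) := by
  letI := adj.rightAdjointCommShift ℤ
  haveI := adj.commShift_of_leftAdjoint ℤ
  haveI := adj.isTriangulated_rightAdjoint
  refine isIso_app_of_isGE adj.unit (fun X n _ => inferInstanceAs (X.IsGE n)) (fun X n _ => ?_) Y a h
  have := isGE_mapDerivedCategory F X n
  exact isGE_rightAdjoint adj (F.mapDerivedCategory.obj X) n

theorem isIso_counit_of_isGE (X : DerivedCategory B) (a : ℤ) [X.IsGE a]
    (h : ∀ q, IsIso (adj.counit.app ((singleFunctor B 0).obj ((homologyFunctor B q).obj X)))) :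
    IsIso (adj.counit.app X) := by
  letI := adj.rightAdjointCommShift ℤ
  haveI := adj.commShift_of_leftAdjoint ℤ
  haveI := adj.isTriangulated_rightAdjoint
  refine isIso_app_of_isGE adj.counit (fun X n _ => ?_) (fun X n _ => inferInstanceAs (X.IsGE n)) X a h
  have := isGE_rightAdjoint adj X n
  exact isGE_mapDerivedCategory F (G.obj X) n

end Adjunction

end GrothLib.DerTrunc
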