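import Groth.Agent.Lib.DerCat.HomologyGamma
import Groth.Agent.Lib.Cohom.DerivedClass
import Mathlib.CategoryTheory.Abelian.RightDerived
import Mathlib.Algebra.Homology.Augment

/-!
# Dimension shifting for right derived functors
-/

universe v v' u u'

open CategoryTheory CategoryTheory.Limits

set_option backward.isDefEq.respectTransparency false

namespace GrothLib.HomGamma

variable {A : Type u} [Category.{v} A] [Abelian A] [HasInjectiveResolutions A]
  {B : Type u'} [Category.{v'} B] [Abelian B]
  {S : ShortComplex A} (hS : S.ShortExact) [Injective S.X₂]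

omit [HasInjectiveResolutions A] [Injective S.X₂] in
lemma aug_w (P : InjectiveResolution S.X₃) :
    (S.g ≫ P.ι.f 0) ≫ P.cocomplex.d 0 1 = 0 := by
  rw [Category.assoc, P.ι_f_zero_comp_complex_d]
  exact comp_zero

omit [HasInjectiveResolutions A] in
/-- A resolution of the cokernel in an injective gives one of the kernel. -/
noncomputable def augRes (P : InjectiveResolution S.X₃) : InjectiveResolution S.X₁ where
  cocomplex := P.cocomplex.augment (S.g ≫ P.ι.f 0) (aug_w P)
  injective n := match n with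
    | 0 => inferInstanceAs (Injective S.X₂)
    | n + 1 => P.injective n
  ι := (CochainComplex.fromSingle₀Equiv _ _).symm ⟨S.f, by
    change S.f ≫ S.g ≫ P.ι.f 0 = 0
    rw [← Category.assoc, S.zero, zero_comp]⟩
  quasiIso := ⟨fun n => by
    have := hS.mono_f
    have := hS.epi_g
    match n with
    | 0 =>
      rw [CochainComplex.quasiIsoAt₀_iff, ShortComplex.quasiIso_iff_of_zeros]
      · refine (ShortComplex.exact_and_mono_f_iff_of_iso (S₂ := ShortComplex.mk S.f (S.g ≫ P.ι.f 0)
          (by rw [← Category.assoc, S.zero, zero_comp])) ?_).2 ⟨?_, hS.mono_f⟩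
        · exact ShortComplex.isoMk (Iso.refl _) (Iso.refl _) (Iso.refl _)
            (by simp [CochainComplex.fromSingle₀Equiv]) (by simp)
        · exact (ShortComplex.exact_iff_of_epi_of_isIso_of_mono
            (S₁ := S) (S₂ := ShortComplex.mk S.f (S.g ≫ P.ι.f 0)
              (by rw [← Category.assoc, S.zero, zero_comp]))
            { τ₁ := 𝟙 _, τ₂ := 𝟙 _, τ₃ := P.ι.f 0 }).1 hS.exact
      all_goals rfl
    | 1 =>
      rw [quasiIsoAt_iff_exactAt _ _ (CochainComplex.exactAt_succ_single_obj _ _),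
        HomologicalComplex.exactAt_iff' _ 0 1 2 (by simp) (by simp)]
      refine (ShortComplex.exact_iff_of_epi_of_isIso_of_mono
        (S₁ := ShortComplex.mk (S.g ≫ P.ι.f 0) (P.cocomplex.d 0 1) (aug_w P))
        (S₂ := (P.cocomplex.augment (S.g ≫ P.ι.f 0) (aug_w P)).sc' 0 1 2)
        { τ₁ := 𝟙 _, τ₂ := 𝟙 _, τ₃ := 𝟙 _ }).1 ?_
      refine (ShortComplex.exact_iff_of_epi_of_isIso_of_mono
        (S₁ := ShortComplex.mk (S.g ≫ P.ι.f 0) (P.cocomplex.d 0 1) (aug_w P))
        (S₂ := ShortComplex.mk (P.ι.f 0) (P.cocomplex.d 0 1) P.ι_f_zero_comp_complex_d)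
        { τ₁ := S.g, τ₂ := 𝟙 _, τ₃ := 𝟙 _ }).2 ?_
      exact ShortComplex.exact_of_f_is_kernel _ P.isLimitKernelFork
    | n + 2 =>
      rw [quasiIsoAt_iff_exactAt _ _ (CochainComplex.exactAt_succ_single_obj _ _),
        HomologicalComplex.exactAt_iff' _ (n + 1) (n + 2) (n + 3) (by simp) (by simp)]
      exact P.exact_succ n⟩

variable (Φ : A ⥤ B) [Φ.Additive]

include hS in
/-- `R^{k+2} X₁ = R^{k+1} X₃`. -/
noncomputable def shiftIso (k : ℕ) :
    (Φ.rightDerived (k + 2)).obj S.X₁ ≅ (Φ.rightDerived (k + 1)).obj S.X₃ :=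
  let P := injectiveResolution S.X₃
  let K := (Φ.mapHomologicalComplex (ComplexShape.up ℕ)).obj (augRes hS P).cocomplex
  let L := (Φ.mapHomologicalComplex (ComplexShape.up ℕ)).obj P.cocomplex
  (augRes hS P).isoRightDerivedObj Φ (k + 2) ≪≫
    K.homologyIsoSc' (k + 1) (k + 2) (k + 3) (by simp) (by simp) ≪≫
    ShortComplex.homologyMapIso (ShortComplex.isoMk (S₁ := K.sc' (k + 1) (k + 2) (k + 3))
      (S₂ := L.sc' k (k + 1) (k + 2)) (Iso.refl _) (Iso.refl _) (Iso.refl _)
      ((Category.id_comp _).trans (Category.comp_id _).symm)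
      ((Category.id_comp _).trans (Category.comp_id _).symm)) ≪≫
    (L.homologyIsoSc' k (k + 1) (k + 2) (by simp) (by simp)).symm ≪≫
    (P.isoRightDerivedObj Φ (k + 1)).symm

variable [PreservesFiniteLimits Φ]

include hS in
/-- `R^1 X₁ = coker (Φ X₂ → Φ X₃)`. -/
noncomputable def shiftIsoOne :
    (Φ.rightDerived 1).obj S.X₁ ≅ cokernel (Φ.map S.g) :=
  let P := injectiveResolution S.X₃
  let K := (Φ.mapHomologicalComplex (ComplexShape.up ℕ)).obj (augRes hS P).cocomplex
  let T : ShortComplex B := ShortComplex.mk (Φ.map (S.g ≫ P.ι.f 0)) (Φ.map (P.cocomplex.d 0 1))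
    (by rw [← Φ.map_comp, aug_w, Φ.map_zero])
  let h : T.LeftHomologyData :=
    { K := Φ.obj S.X₃
      H := cokernel (Φ.map S.g)
      i := Φ.map (P.ι.f 0)
      π := cokernel.π _
      wi := by
        change Φ.map (P.ι.f 0) ≫ Φ.map (P.cocomplex.d 0 1) = 0
        rw [← Φ.map_comp, P.ι_f_zero_comp_complex_d]
        exact Φ.map_zero _ _
      hi := KernelFork.mapIsLimit _ P.isLimitKernelFork Φ
      wπ := by
        have e : (KernelFork.mapIsLimit _ P.isLimitKernelFork Φ).lift
            (KernelFork.ofι T.f T.zero) = Φ.map S.g := by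
          apply Fork.IsLimit.hom_ext (KernelFork.mapIsLimit _ P.isLimitKernelFork Φ)
          rw [Fork.IsLimit.lift_ι]
          exact Φ.map_comp _ _
        erw [e, cokernel.condition]
      hπ := CokernelCofork.IsColimit.ofπ _ _
        (fun k hk => cokernel.desc _ k (by
          have e : (KernelFork.mapIsLimit _ P.isLimitKernelFork Φ).lift
              (KernelFork.ofι T.f T.zero) = Φ.map S.g := by
            apply Fork.IsLimit.hom_ext (KernelFork.mapIsLimit _ P.isLimitKernelFork Φ)
            rw [Fork.IsLimit.lift_ι]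
            exact Φ.map_comp _ _
          rw [← e]; exact hk))
        (fun k hk => cokernel.π_desc _ _ _)
        (fun k hk m hm => by ext; simpa using hm) }
  (augRes hS P).isoRightDerivedObj Φ 1 ≪≫
    K.homologyIsoSc' 0 1 2 (by simp) (by simp) ≪≫
    ShortComplex.homologyMapIso (ShortComplex.isoMk (S₁ := K.sc' 0 1 2)
      (S₂ := T) (Iso.refl _) (Iso.refl _) (Iso.refl _)
      ((Category.id_comp _).trans (Category.comp_id _).symm)
      ((Category.id_comp _).trans (Category.comp_id _).symm)) ≪≫
    h.homologyIso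

include hS in
theorem epi_map_g_of_isZero (h : IsZero ((Φ.rightDerived 1).obj S.X₁)) : Epi (Φ.map S.g) :=
  Abelian.epi_of_cokernel_π_eq_zero _ ((h.of_iso (shiftIsoOne hS Φ).symm).eq_of_tgt _ _)

omit [Injective S.X₂] in
/-- If `R^1 X₁ = 0`, then `Φ` keeps the sequence short exact. -/
theorem shortExact_map_of_isZero [EnoughInjectives A] (hS : S.ShortExact)
    (h : IsZero ((Φ.rightDerived 1).obj S.X₁)) : (S.map Φ).ShortExact := by
  have := hS.mono_f
  have := hS.epi_g
  refine { exact := hS.exact.map_of_mono_of_preservesKernel Φ inferInstance inferInstance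
           mono_f := inferInstanceAs (Mono (Φ.map S.f))
           epi_g := ?_ }
  let j := Injective.ι S.X₁
  let T : ShortComplex A := ShortComplex.mk j (cokernel.π j) (cokernel.condition j)
  have hT : T.ShortExact :=
    { exact := ShortComplex.exact_of_g_is_cokernel _ (cokernelIsCokernel j) }
  have : Injective T.X₂ := inferInstanceAs (Injective (Injective.under S.X₁))
  have hepi : Epi (Φ.map T.g) := epi_map_g_of_isZero hT Φ h
  let e : S.X₂ ⟶ Injective.under S.X₁ := Injective.factorThru j S.f
  have he : S.f ≫ e = j := Injective.comp_factorThru _ _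
  let c : S.X₃ ⟶ cokernel j := hS.exact.desc (e ≫ cokernel.π j)
    (by rw [← Category.assoc, he, cokernel.condition])
  have hc : S.g ≫ c = e ≫ cokernel.π j := hS.exact.g_desc _ _
  rw [epi_iff_surjective_up_to_refinements]
  intro W y
  obtain ⟨W', p, hp, z, hz⟩ := surjective_up_to_refinements_of_epi (Φ.map T.g) (y ≫ Φ.map c)
  let U : ShortComplex A := ShortComplex.mk (biprod.lift e S.g)
    (biprod.desc (cokernel.π j) (-c)) (by simp [hc])
  have hU : U.Exact := by
    rw [ShortComplex.exact_iff_exact_up_to_refinements]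
    intro V x hx
    obtain ⟨V₁, q, hq, b, hb⟩ := surjective_up_to_refinements_of_epi S.g (x ≫ biprod.snd)
    have h0 : (q ≫ x ≫ biprod.fst - b ≫ e) ≫ cokernel.π j = 0 := by
      have hx' : x ≫ biprod.desc (cokernel.π j) (-c) = 0 := hx
      rw [biprod.desc_eq, Preadditive.comp_add] at hx'
      simp only [Preadditive.comp_neg, ← sub_eq_add_neg, sub_eq_zero, ← Category.assoc] at hx'
      rw [Preadditive.sub_comp, Category.assoc, Category.assoc, sub_eq_zero]
      rw [Category.assoc b, ← hc, ← Category.assoc b, ← hb]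
      simp only [Category.assoc] at hx' ⊢
      rw [hx']
    obtain ⟨V₂, r, hr, t, ht⟩ := hT.exact.exact_up_to_refinements _ h0
    refine ⟨V₂, r ≫ q, inferInstance, r ≫ b + t ≫ S.f, biprod.hom_ext _ _ ?_ ?_⟩
    · simp only [U, T, Preadditive.comp_sub, sub_eq_iff_eq_add, Category.assoc,
        Preadditive.add_comp, biprod.lift_fst, he] at ht ⊢
      rw [ht]; abel
    · simp only [U, Category.assoc, Preadditive.add_comp, biprod.lift_snd, S.zero, comp_zero,
        add_zero]
      rw [hb]
  have : Mono U.f := by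
    refine Preadditive.mono_of_cancel_zero _ fun {V} x hx => ?_
    have h1 : x ≫ e = 0 := by simpa [U] using hx =≫ biprod.fst
    have h2 : x ≫ S.g = 0 := by simpa [U] using hx =≫ biprod.snd
    obtain ⟨V₁, q, hq, t, ht⟩ := hS.exact.exact_up_to_refinements x h2
    have : t ≫ j = 0 := by rw [← he, ← Category.assoc, ← ht, Category.assoc, h1, comp_zero]
    rw [← cancel_epi q, ht, zero_of_comp_mono j this, zero_comp, comp_zero]
  have hΦU := (hU.map_of_mono_of_preservesKernel Φ ‹Mono U.f› inferInstance)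
  obtain ⟨W'', r, hr, x, hx⟩ := hΦU.exact_up_to_refinements
    (z ≫ Φ.map biprod.inl + p ≫ y ≫ Φ.map biprod.inr) (by
      change (z ≫ Φ.map biprod.inl + p ≫ y ≫ Φ.map biprod.inr) ≫
        Φ.map (biprod.desc (cokernel.π j) (-c)) = 0
      simp only [Preadditive.add_comp, Category.assoc, ← Φ.map_comp, biprod.inl_desc,
        biprod.inr_desc, Φ.map_neg, Preadditive.comp_neg]
      rw [hz]
      exact add_neg_cancel _)
  refine ⟨W'', r ≫ p, inferInstance, x, ?_⟩
  have := hx =≫ Φ.map biprod.snd
  have hfst : U.f ≫ biprod.snd = S.g := biprod.lift_snd _ _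
  change (r ≫ (z ≫ Φ.map biprod.inl + p ≫ y ≫ Φ.map biprod.inr)) ≫ Φ.map biprod.snd =
    (x ≫ Φ.map U.f) ≫ Φ.map biprod.snd at this
  simp only [Category.assoc, Preadditive.comp_add, Preadditive.add_comp, ← Φ.map_comp,
    biprod.inl_snd, biprod.inr_snd, hfst, Φ.map_zero, comp_zero, zero_add, CategoryTheory.Functor.map_id,
    Category.comp_id] at this
  exact (Category.assoc _ _ _).trans ((congrArg (r ≫ p ≫ ·) (Category.comp_id y)).symm.trans this)

end GrothLib.HomGamma
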