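import Groth.Agent.Lib.DerCat.MapAdj
import Mathlib.CategoryTheory.Monad.Adjunction
import Mathlib.CategoryTheory.Adjunction.FullyFaithful
import Mathlib.Algebra.Homology.DerivedCategory.HomologySequence

/-! # Exact fully faithful right adjoints on derived categories -/

set_option autoImplicit false

universe w₁ w₂ v₁ v₂ u₁ u₂

open CategoryTheory CategoryTheory.Limits

namespace GrothLib.DerCat19

variable {A : Type u₁} [Category.{v₁} A] [Abelian A] [HasDerivedCategory.{w₁} A]
  {B : Type u₂} [Category.{v₂} B] [Abelian B] [HasDerivedCategory.{w₂} B]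

/-- An isomorphism `F ⋙ G ≅ 𝟭` of exact functors induces one on derived categories. -/
noncomputable def mapDerivedCompIdIso (F : A ⥤ B) (G : B ⥤ A) [F.Additive] [G.Additive]
    [PreservesFiniteLimits F] [PreservesFiniteColimits F] [PreservesFiniteLimits G] [PreservesFiniteColimits G]
    (e : F ⋙ G ≅ 𝟭 A) : F.mapDerivedCategory ⋙ G.mapDerivedCategory ≅ 𝟭 _ :=
  letI : Localization.Lifting DerivedCategory.Q (HomologicalComplex.quasiIso A (ComplexShape.up ℤ))
      DerivedCategory.Q (F.mapDerivedCategory ⋙ G.mapDerivedCategory) :=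
    ⟨(Functor.associator _ _ _).symm ≪≫ Functor.isoWhiskerRight F.mapDerivedCategoryFactors _ ≪≫
      Functor.associator _ _ _ ≪≫ Functor.isoWhiskerLeft _ G.mapDerivedCategoryFactors ≪≫
      (Functor.associator _ _ _).symm ≪≫ Functor.isoWhiskerRight
        (NatIso.ofComponents (fun K => HomologicalComplex.Hom.isoOfComponents (fun n => e.app (K.X n))
          (fun i j _ => (e.hom.naturality (K.d i j)).symm))
          (fun {K L} φ => by ext n; exact e.hom.naturality (φ.f n)) :
          F.mapHomologicalComplex (ComplexShape.up ℤ) ⋙ G.mapHomologicalComplex (ComplexShape.up ℤ) ≅ 𝟭 _) _ ≪≫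
        Functor.leftUnitor _⟩
  Localization.liftNatIso DerivedCategory.Q (HomologicalComplex.quasiIso A (ComplexShape.up ℤ))
    DerivedCategory.Q DerivedCategory.Q _ (𝟭 _) (Iso.refl _)

/-- For an adjunction of exact functors with invertible counit, the derived right adjoint is fully faithful. -/
noncomputable def fullyFaithfulMapDerived {L : B ⥤ A} {R : A ⥤ B} [L.Additive] [R.Additive]
    [PreservesFiniteLimits L] [PreservesFiniteColimits L] [PreservesFiniteLimits R] [PreservesFiniteColimits R]
    (adj : L ⊣ R) [IsIso adj.counit] : R.mapDerivedCategory.FullyFaithful :=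
  haveI : IsIso (GrothLib.DerCat.mapDerivedAdj adj).counit :=
    (GrothLib.DerCat.mapDerivedAdj adj).isIso_counit_of_iso (mapDerivedCompIdIso R L (asIso adj.counit))
  (GrothLib.DerCat.mapDerivedAdj adj).fullyFaithfulROfIsIsoCounit

/-- An exact functor which inverts the map induced in homology inverts its image. -/
theorem isIso_map_homologyMap (F : A ⥤ B) [F.Additive] [PreservesFiniteLimits F] [PreservesFiniteColimits F]
    {K L : CochainComplex A ℤ} (φ : K ⟶ L) (n : ℤ)
    (h : ∀ k, IsIso (F.map (φ.f k))) : IsIso (F.map (HomologicalComplex.homologyMap φ n)) := by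
  let φ' := (F.mapHomologicalComplex (ComplexShape.up ℤ)).map φ
  haveI : ∀ k, IsIso (φ'.f k) := h
  haveI : IsIso φ' := HomologicalComplex.Hom.isIso_of_components φ'
  haveI : IsIso (HomologicalComplex.homologyMap φ' n) :=
    inferInstanceAs (IsIso ((HomologicalComplex.homologyFunctor B (ComplexShape.up ℤ) n).map φ'))
  haveI : F.PreservesHomology := inferInstance
  have e := ShortComplex.mapHomologyIso_hom_naturality
    ((HomologicalComplex.shortComplexFunctor A (ComplexShape.up ℤ) n).map φ) F
  have e' : HomologicalComplex.homologyMap φ' n ≫ ((L.sc n).mapHomologyIso F).hom =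
      ((K.sc n).mapHomologyIso F).hom ≫ F.map (HomologicalComplex.homologyMap φ n) := e
  let a : ((F.mapHomologicalComplex (ComplexShape.up ℤ)).obj K).homology n ≅ F.obj (K.homology n) :=
    (K.sc n).mapHomologyIso F
  let b : ((F.mapHomologicalComplex (ComplexShape.up ℤ)).obj L).homology n ≅ F.obj (L.homology n) :=
    (L.sc n).mapHomologyIso F
  have e'' : HomologicalComplex.homologyMap φ' n ≫ b.hom = a.hom ≫ F.map (HomologicalComplex.homologyMap φ n) := e'
  have : F.map (HomologicalComplex.homologyMap φ n) = a.inv ≫ HomologicalComplex.homologyMap φ' n ≫ b.hom :=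
    (Iso.eq_inv_comp a).2 e''.symm
  rw [this]
  infer_instance

/-- The homology of the derived image of a complex under an exact functor. -/
noncomputable def homologyMapDerivedIso (F : A ⥤ B) [F.Additive] [PreservesFiniteLimits F] [PreservesFiniteColimits F]
    (K : CochainComplex A ℤ) (n : ℤ) :
    (DerivedCategory.homologyFunctor B n).obj (F.mapDerivedCategory.obj (DerivedCategory.Q.obj K)) ≅
      F.obj (K.homology n) :=
  (DerivedCategory.homologyFunctor B n).mapIso (F.mapDerivedCategoryFactors.app K) ≪≫
    (DerivedCategory.homologyFunctorFactors B n).app _ ≪≫ (K.sc n).mapHomologyIso F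

end GrothLib.DerCat19
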