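import Mathlib.Algebra.Homology.Embedding.StupidTrunc
import Mathlib.Algebra.Homology.Embedding.CochainComplex
import Mathlib.Algebra.Homology.DerivedCategory.ShortExact

/-! # Stupid truncations: the inclusion, the projection, and the short exact sequence -/

set_option autoImplicit false

universe w v u

open CategoryTheory CategoryTheory.Limits ComplexShape

namespace GrothLib.DerCat

variable {A : Type u} [Category.{v} A] [Abelian A] (L : CochainComplex A ℤ)

/-- The part of `L` in degrees at least `n`. -/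
noncomputable abbrev sGE (n : ℤ) : CochainComplex A ℤ := L.stupidTrunc (embeddingUpIntGE n)

/-- The part of `L` in degrees at most `n`. -/
noncomputable abbrev sLE (n : ℤ) : CochainComplex A ℤ := L.stupidTrunc (embeddingUpIntLE n)

theorem stupidTrunc_d {ι : Type*} {c : ComplexShape ι} (e : c.Embedding (up ℤ)) [e.IsRelIff]
    {i j : ι} {i' j' : ℤ} (hi : e.f i = i') (hj : e.f j = j') :
    (L.stupidTrunc e).d i' j' =
      (L.stupidTruncXIso e hi).hom ≫ L.d i' j' ≫ (L.stupidTruncXIso e hj).inv := by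
  subst hi hj
  simp only [HomologicalComplex.stupidTrunc, HomologicalComplex.extend_d_eq (L.restriction e) e rfl rfl,
    HomologicalComplex.restriction_d_eq L e rfl rfl, HomologicalComplex.stupidTruncXIso, Iso.trans_hom,
    Iso.trans_inv, Category.assoc]
  simp [HomologicalComplex.restrictionXIso]

theorem exists_GE_iff (n i : ℤ) : (∃ k, (embeddingUpIntGE n).f k = i) ↔ n ≤ i :=
  ⟨fun ⟨k, hk⟩ => by simp at hk; omega, fun h => ⟨(i - n).toNat, by simp; omega⟩⟩

theorem exists_LE_iff (n i : ℤ) : (∃ k, (embeddingUpIntLE n).f k = i) ↔ i ≤ n :=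
  ⟨fun ⟨k, hk⟩ => by simp at hk; omega, fun h => ⟨(n - i).toNat, by simp; omega⟩⟩

theorem isZero_sGE {n i : ℤ} (h : i < n) : IsZero ((sGE L n).X i) :=
  L.isZero_stupidTrunc_X _ _ fun k hk => by have := (exists_GE_iff n i).1 ⟨k, hk⟩; omega

theorem isZero_sLE {n i : ℤ} (h : n < i) : IsZero ((sLE L n).X i) :=
  L.isZero_stupidTrunc_X _ _ fun k hk => by have := (exists_LE_iff n i).1 ⟨k, hk⟩; omega

/-- The components of `sGE L n`. -/
noncomputable def sGEXIso {n i : ℤ} (h : n ≤ i) : (sGE L n).X i ≅ L.X i :=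
  L.stupidTruncXIso _ (Classical.choose_spec ((exists_GE_iff n i).2 h))

/-- The components of `sLE L n`. -/
noncomputable def sLEXIso {n i : ℤ} (h : i ≤ n) : (sLE L n).X i ≅ L.X i :=
  L.stupidTruncXIso _ (Classical.choose_spec ((exists_LE_iff n i).2 h))

theorem sGE_d {n i j : ℤ} (hi : n ≤ i) (hj : n ≤ j) :
    (sGE L n).d i j = (sGEXIso L hi).hom ≫ L.d i j ≫ (sGEXIso L hj).inv :=
  stupidTrunc_d L _ (Classical.choose_spec ((exists_GE_iff n i).2 hi))
    (Classical.choose_spec ((exists_GE_iff n j).2 hj))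

theorem sLE_d {n i j : ℤ} (hi : i ≤ n) (hj : j ≤ n) :
    (sLE L n).d i j = (sLEXIso L hi).hom ≫ L.d i j ≫ (sLEXIso L hj).inv :=
  stupidTrunc_d L _ (Classical.choose_spec ((exists_LE_iff n i).2 hi))
    (Classical.choose_spec ((exists_LE_iff n j).2 hj))

/-- The inclusion `sGE L n ⟶ L`. -/
noncomputable def sGEι (n : ℤ) : sGE L n ⟶ L where
  f i := if h : n ≤ i then (sGEXIso L h).hom else 0
  comm' i j (hij : i + 1 = j) := by
    by_cases hi : n ≤ i
    · rw [dif_pos hi, dif_pos (by omega : n ≤ j), sGE_d L hi (by omega : n ≤ j)]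
      simp
    · exact (isZero_sGE L (by omega)).eq_of_src _ _

/-- The projection `L ⟶ sLE L n`. -/
noncomputable def sLEπ (n : ℤ) : L ⟶ sLE L n where
  f i := if h : i ≤ n then (sLEXIso L h).inv else 0
  comm' i j (hij : i + 1 = j) := by
    by_cases hj : j ≤ n
    · rw [dif_pos (by omega : i ≤ n), dif_pos hj, sLE_d L (by omega : i ≤ n) hj]
      simp
    · exact (isZero_sLE L (by omega)).eq_of_tgt _ _

theorem sLEπ_f_eq_zero {n i : ℤ} (h : n < i) : (sLEπ L n).f i = 0 :=
  dif_neg (by omega)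

theorem sGEι_comp_sLEπ (n : ℤ) : sGEι L n ≫ sLEπ L (n - 1) = 0 := by
  ext i
  rcases lt_or_ge i n with h | h
  · exact (isZero_sGE L h).eq_of_src _ _
  · exact (isZero_sLE L (by omega)).eq_of_tgt _ _

/-- `0 ⟶ sGE L n ⟶ L ⟶ sLE L (n-1) ⟶ 0`. -/
noncomputable def stupidSeq (n : ℤ) : ShortComplex (CochainComplex A ℤ) :=
  ShortComplex.mk (sGEι L n) (sLEπ L (n - 1)) (sGEι_comp_sLEπ L n)

theorem stupidSeq_shortExact (n : ℤ) : (stupidSeq L n).ShortExact :=
  HomologicalComplex.shortExact_of_degreewise_shortExact _ fun i => by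
    rcases lt_or_ge i n with h | h
    · refine (ShortComplex.Splitting.ofIsZeroOfIsIso _ (isZero_sGE L h) ?_).shortExact
      change IsIso ((sLEπ L (n - 1)).f i)
      rw [show (sLEπ L (n - 1)).f i = (sLEXIso L (by omega : i ≤ n - 1)).inv from dif_pos (by omega)]
      infer_instance
    · refine (ShortComplex.Splitting.ofIsIsoOfIsZero _ ?_ (isZero_sLE L (by omega))).shortExact
      change IsIso ((sGEι L n).f i)
      rw [show (sGEι L n).f i = (sGEXIso L h).hom from dif_pos h]
      infer_instance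

end GrothLib.DerCat
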