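import Groth.Agent.Lib.KInj.Adjoint
import Mathlib.CategoryTheory.Localization.Adjunction
import Mathlib.Algebra.Homology.DerivedCategory.ExactFunctor

/-! # Exact functors on derived categories: adjunctions and composition -/

set_option autoImplicit false

universe w₁ w₂ w₃ v₁ v₂ v₃ u₁ u₂ u₃

open CategoryTheory CategoryTheory.Limits

namespace GrothLib.DerCat

variable {A : Type u₁} [Category.{v₁} A] [Abelian A] [HasDerivedCategory.{w₁} A]
  {B : Type u₂} [Category.{v₂} B] [Abelian B] [HasDerivedCategory.{w₂} B]
  {C : Type u₃} [Category.{v₃} C] [Abelian C] [HasDerivedCategory.{w₃} C]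

/-- An adjunction between exact functors induces one between derived categories. -/
noncomputable def mapDerivedAdj {L : B ⥤ A} {R : A ⥤ B} [L.Additive] [R.Additive]
    [PreservesFiniteLimits L] [PreservesFiniteColimits L] [PreservesFiniteLimits R] [PreservesFiniteColimits R]
    (adj : L ⊣ R) : L.mapDerivedCategory ⊣ R.mapDerivedCategory :=
  letI : CatCommSq (L.mapHomologicalComplex (ComplexShape.up ℤ)) DerivedCategory.Q DerivedCategory.Q
      L.mapDerivedCategory := ⟨L.mapDerivedCategoryFactors.symm⟩
  letI : CatCommSq (R.mapHomologicalComplex (ComplexShape.up ℤ)) DerivedCategory.Q DerivedCategory.Q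
      R.mapDerivedCategory := ⟨R.mapDerivedCategoryFactors.symm⟩
  (KInj.mapComplexAdj adj (ComplexShape.up ℤ)).localization DerivedCategory.Q
    (HomologicalComplex.quasiIso B (ComplexShape.up ℤ)) DerivedCategory.Q
    (HomologicalComplex.quasiIso A (ComplexShape.up ℤ)) L.mapDerivedCategory R.mapDerivedCategory

/-- The derived functor of a composite of exact functors. -/
noncomputable def mapDerivedCompIso (F : A ⥤ B) (G : B ⥤ C) (H : A ⥤ C) [F.Additive] [G.Additive] [H.Additive]
    [PreservesFiniteLimits F] [PreservesFiniteColimits F] [PreservesFiniteLimits G] [PreservesFiniteColimits G]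
    [PreservesFiniteLimits H] [PreservesFiniteColimits H] (e : F ⋙ G ≅ H) :
    F.mapDerivedCategory ⋙ G.mapDerivedCategory ≅ H.mapDerivedCategory :=
  letI : Localization.Lifting DerivedCategory.Q (HomologicalComplex.quasiIso A (ComplexShape.up ℤ))
      (H.mapHomologicalComplex (ComplexShape.up ℤ) ⋙ DerivedCategory.Q)
      (F.mapDerivedCategory ⋙ G.mapDerivedCategory) :=
    ⟨(Functor.associator _ _ _).symm ≪≫ Functor.isoWhiskerRight F.mapDerivedCategoryFactors _ ≪≫
      Functor.associator _ _ _ ≪≫ Functor.isoWhiskerLeft _ G.mapDerivedCategoryFactors ≪≫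
      (Functor.associator _ _ _).symm ≪≫ Functor.isoWhiskerRight
        (NatIso.ofComponents (fun K => HomologicalComplex.Hom.isoOfComponents (fun n => e.app (K.X n))
          (fun i j _ => (e.hom.naturality (K.d i j)).symm))
          (fun {K L} φ => by ext n; exact e.hom.naturality (φ.f n))) _⟩
  Localization.liftNatIso DerivedCategory.Q (HomologicalComplex.quasiIso A (ComplexShape.up ℤ))
    (H.mapHomologicalComplex (ComplexShape.up ℤ) ⋙ DerivedCategory.Q)
    (H.mapHomologicalComplex (ComplexShape.up ℤ) ⋙ DerivedCategory.Q) _ _ (Iso.refl _)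

end GrothLib.DerCat
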