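import Groth.Agent.Lib.DerCat.Truncation
import Groth.Agent.Lib.TriCat.ThickProp

/-! # Bounded objects are built from their cohomology objects -/

set_option autoImplicit false
universe w v u

open CategoryTheory CategoryTheory.Limits CategoryTheory.Pretriangulated DerivedCategory

namespace GrothLib.DerTrunc

variable {A : Type u} [Category.{v} A] [Abelian A] [HasDerivedCategory.{w} A]

/-- A class containing zero, closed under shifts and extensions, and containing the cohomology objects of a
bounded object in degree zero contains the object. -/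
theorem prop_of_homology_zero (Q : DerivedCategory A → Prop)
    (hiso : ∀ {X Y : DerivedCategory A}, (X ≅ Y) → Q X → Q Y)
    (hzero : ∀ X : DerivedCategory A, IsZero X → Q X)
    (hshift : ∀ (X : DerivedCategory A) (n : ℤ), Q X → Q (X⟦n⟧))
    (hext : ∀ T : Triangle (DerivedCategory A), T ∈ distTriang _ → Q T.obj₁ → Q T.obj₃ → Q T.obj₂) :
    ∀ (m : ℕ) (K : DerivedCategory A) (a : ℤ), K.IsGE a → K.IsLE (a + m - 1) →
      (∀ i, Q ((singleFunctor A 0).obj ((homologyFunctor A i).obj K))) → Q K := by
  intro m
  induction m with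
  | zero =>
    intro K a ha hb _
    exact hzero _ (TStructure.t.isZero K (a + (0 : ℕ) - 1) a (by omega))
  | succ m ih =>
    intro K a ha hb h
    let T := (TStructure.t.triangleLTGE (a + 1)).obj K
    have hT : T ∈ distTriang _ := TStructure.t.triangleLTGE_distinguished _ _
    have l1 : (T.obj₁).IsLE a := inferInstanceAs (TStructure.t.IsLE ((TStructure.t.truncLT (a + 1)).obj K) a)
    have g1 : (T.obj₁).IsGE a := inferInstanceAs (TStructure.t.IsGE ((TStructure.t.truncLT (a + 1)).obj K) a)
    have g3 : (T.obj₃).IsGE (a + 1) :=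
      inferInstanceAs (TStructure.t.IsGE ((TStructure.t.truncGE (a + 1)).obj K) (a + 1))
    have l3 : (T.obj₃).IsLE (a + (m + 1 : ℕ) - 1) :=
      inferInstanceAs (TStructure.t.IsLE ((TStructure.t.truncGE (a + 1)).obj K) (a + (m + 1 : ℕ) - 1))
    refine hext T hT ?_ (ih _ (a + 1) g3 (by rw [show a + 1 + (m : ℤ) - 1 = a + (m + 1 : ℕ) - 1 by omega]; exact l3)
      fun i => ?_)
    · obtain ⟨e⟩ := nonempty_iso_single T.obj₁ a
      let i₁ := @asIso _ _ _ _ _ (isIso_homology_truncLTι K (a + 1) a (by omega))
      refine hiso (((singleFunctor A a).mapIso i₁).symm ≪≫ e.symm) ?_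
      exact hiso ((((DerivedCategory.singleFunctors A).shiftIso (-a) a 0 (by omega)).app _))
        (hshift _ (-a) (h a))
    · by_cases hi : a + 1 ≤ i
      · exact hiso ((singleFunctor A 0).mapIso (@asIso _ _ _ _ _ (isIso_homology_truncGEπ K (a + 1) i hi))) (h i)
      · exact hzero _ ((singleFunctor A 0).map_isZero (isZero_of_isGE T.obj₃ (a + 1) i (by omega)))

theorem prop_of_homology (Q : DerivedCategory A → Prop) (hQ : TriCat.Thick Q) (K : DerivedCategory A) (a b : ℤ)
    [K.IsGE a] [K.IsLE b] (h : ∀ i, Q ((singleFunctor A 0).obj ((homologyFunctor A i).obj K))) : Q K :=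
  prop_of_homology_zero Q (fun e hX => hQ.of_iso e hX) (fun _ hX => hQ.zero hX) (fun _ n hX => hQ.shift n hX)
    (fun T hT h₁ h₃ => hQ.ext₂ T hT h₁ h₃) (b + 1 - a).toNat K a inferInstance
    (TStructure.t.isLE_of_le K b _ (by omega)) h

end GrothLib.DerTrunc
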