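import Groth.Agent.Lib.DerCat.CohIn

/-!
# Full faithfulness and essential surjectivity on bounded objects by dévissage
-/

universe w w' v v' u u'

open CategoryTheory Limits Pretriangulated DerivedCategory

namespace GrothLib.DerTrunc

section Tri

variable {D D' : Type*} [Category D] [Category D'] [Preadditive D] [Preadditive D']
  [HasZeroObject D] [HasZeroObject D'] [HasShift D ℤ] [HasShift D' ℤ]
  [∀ n : ℤ, (shiftFunctor D n).Additive] [∀ n : ℤ, (shiftFunctor D' n).Additive]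
  [Pretriangulated D] [Pretriangulated D'] (Φ : D ⥤ D') [Φ.CommShift ℤ] [Φ.IsTriangulated]

/-- `Φ` is bijective on morphisms from `X` to `Y`. -/
def Bij (X Y : D) : Prop := Function.Bijective (fun g : X ⟶ Y => Φ.map g)

omit [Preadditive D] [Preadditive D'] [HasZeroObject D] [HasZeroObject D'] [HasShift D ℤ]
  [HasShift D' ℤ] [∀ n : ℤ, (shiftFunctor D n).Additive]
  [∀ n : ℤ, (shiftFunctor D' n).Additive] [Pretriangulated D] [Pretriangulated D'] [Φ.CommShift ℤ]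
  [Φ.IsTriangulated] in
lemma bij_of_iso {X X' Y Y' : D} (e : X ≅ X') (e' : Y ≅ Y') (h : Bij Φ X Y) : Bij Φ X' Y' := by
  have : (fun g : X' ⟶ Y' => Φ.map g) =
      (Iso.homCongr (Φ.mapIso e) (Φ.mapIso e')) ∘ (fun g : X ⟶ Y => Φ.map g) ∘
        (Iso.homCongr e e').symm := by
    funext g
    simp only [Function.comp_apply, Iso.homCongr_symm, Iso.homCongr_apply, Iso.symm_inv,
      Iso.symm_hom, Functor.mapIso_inv, Functor.mapIso_hom]
    simp only [← Φ.map_comp, Category.assoc, Iso.inv_hom_id, Iso.inv_hom_id_assoc, Category.comp_id]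
  change Function.Bijective _
  rw [this]
  exact (Equiv.bijective _).comp (Function.Bijective.comp h (Equiv.bijective _))

omit [HasZeroObject D] [HasZeroObject D'] [∀ n : ℤ, (shiftFunctor D n).Additive]
  [∀ n : ℤ, (shiftFunctor D' n).Additive] [Pretriangulated D] [Pretriangulated D'] [Φ.IsTriangulated]
  [Preadditive D] [Preadditive D'] in
lemma bij_shift_both {X Y : D} (h : Bij Φ X Y) (a : ℤ) : Bij Φ (X⟦a⟧) (Y⟦a⟧) := by
  let σ := (Functor.FullyFaithful.ofFullyFaithful (shiftFunctor D a)).homEquiv (X := X) (Y := Y)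
  let σ' := (Functor.FullyFaithful.ofFullyFaithful (shiftFunctor D' a)).homEquiv (X := Φ.obj X) (Y := Φ.obj Y)
  have : (fun g : X⟦a⟧ ⟶ Y⟦a⟧ => Φ.map g) ∘ σ =
      (Iso.homCongr ((Φ.commShiftIso a).app X).symm ((Φ.commShiftIso a).app Y).symm) ∘ σ' ∘
        (fun g : X ⟶ Y => Φ.map g) := by
    funext g
    have hn := (Φ.commShiftIso a).hom.naturality g
    simp only [Function.comp_apply, σ, σ', Functor.FullyFaithful.homEquiv_apply, Iso.homCongr_apply,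
      Iso.symm_inv, Iso.symm_hom, Iso.app_inv, Iso.app_hom]
    simp only [Functor.comp_map] at hn
    rw [← reassoc_of% hn, Iso.hom_inv_id_app]
    exact (Category.comp_id _).symm
  have hb : Function.Bijective ((fun g : X⟦a⟧ ⟶ Y⟦a⟧ => Φ.map g) ∘ σ) := by
    rw [this]; exact (Equiv.bijective _).comp ((Equiv.bijective _).comp h)
  exact (Function.Bijective.of_comp_iff _ σ.bijective).1 hb

omit [HasZeroObject D] [HasZeroObject D'] [∀ n : ℤ, (shiftFunctor D n).Additive]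
  [∀ n : ℤ, (shiftFunctor D' n).Additive] [Pretriangulated D] [Pretriangulated D'] [Φ.IsTriangulated]
  [Preadditive D] [Preadditive D'] in
lemma bij_shift {X Y : D} (h : ∀ n : ℤ, Bij Φ X (Y⟦n⟧)) (a b : ℤ) : Bij Φ (X⟦a⟧) (Y⟦b⟧) :=
  bij_of_iso Φ (Iso.refl _) ((shiftFunctorAdd' D (b - a) a b (by omega)).app Y).symm
    (bij_shift_both Φ (h (b - a)) a)

/-- Five lemma in the first variable. -/
lemma bij_obj₂_left (T : Triangle D) (hT : T ∈ distTriang D) (Y : D)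
    (h₁ : ∀ n : ℤ, Bij Φ T.obj₁ (Y⟦n⟧)) (h₃ : ∀ n : ℤ, Bij Φ T.obj₃ (Y⟦n⟧)) :
    Bij Φ T.obj₂ Y := by
  have h0 : ∀ {Z : D}, (∀ n : ℤ, Bij Φ Z (Y⟦n⟧)) → Bij Φ Z Y := fun h =>
    bij_of_iso Φ (Iso.refl _) ((shiftFunctorZero D ℤ).app Y) (h 0)
  have hs : ∀ {Z : D}, (∀ n : ℤ, Bij Φ Z (Y⟦n⟧)) → ∀ a : ℤ, Bij Φ (Z⟦a⟧) Y := fun h a =>
    bij_of_iso Φ (Iso.refl _) ((shiftFunctorZero D ℤ).app Y) (bij_shift Φ h a 0)
  have hinj : ∀ u : T.obj₂ ⟶ Y, Φ.map u = 0 → u = 0 := by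
    intro u hu
    obtain ⟨v, rfl⟩ := T.yoneda_exact₂ hT u ((h0 h₁).1 (by
      simp only [Φ.map_comp, hu, comp_zero, Φ.map_zero]))
    rw [Φ.map_comp] at hu
    obtain ⟨w, hw⟩ := Triangle.yoneda_exact₂ _ (Φ.map_distinguished _ (rot_of_distTriang _ hT))
      (Φ.map v) hu
    obtain ⟨s, rfl⟩ := (hs h₁ 1).2 w
    have : v = T.mor₃ ≫ s := (h0 h₃).1 (by
      simp only [Φ.map_comp]; exact hw)
    rw [this, comp_distTriang_mor_zero₂₃_assoc _ hT, zero_comp]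
  refine ⟨fun u v huv => sub_eq_zero.1 (hinj _ (by rw [Φ.map_sub]; exact sub_eq_zero.2 huv)), fun y => ?_⟩
  obtain ⟨x₁, hx₁⟩ := (h0 h₁).2 (Φ.map T.mor₁ ≫ y)
  simp only at hx₁
  have hT' := inv_rot_of_distTriang _ hT
  have hx0 : T.invRotate.mor₁ ≫ x₁ = 0 := (hs h₃ (-1)).1 ((Φ.map_comp _ _).trans
    ((congrArg (Φ.map T.invRotate.mor₁ ≫ ·) hx₁).trans ((Category.assoc _ _ _).symm.trans
      ((congrArg (· ≫ y) ((Φ.map_comp _ _).symm.trans ((congrArg Φ.map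
        (comp_distTriang_mor_zero₁₂ _ hT')).trans (Φ.map_zero _ _)))).trans
          (zero_comp.trans (Φ.map_zero _ _).symm)))))
  obtain ⟨x, hx⟩ : ∃ x : T.obj₂ ⟶ Y, x₁ = T.mor₁ ≫ x := T.invRotate.yoneda_exact₂ hT' x₁ hx0
  subst hx
  obtain ⟨z, hz⟩ := Triangle.yoneda_exact₂ _ (Φ.map_distinguished _ hT) (y - Φ.map x)
    (by change Φ.map T.mor₁ ≫ (y - Φ.map x) = 0
        rw [Preadditive.comp_sub, ← Φ.map_comp, hx₁, sub_self])
  obtain ⟨z', rfl⟩ := (h0 h₃).2 z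
  refine ⟨x + T.mor₂ ≫ z', ?_⟩
  change Φ.map (x + T.mor₂ ≫ z') = y
  rw [Φ.map_add, Φ.map_comp]
  exact (congrArg (Φ.map x + ·) hz.symm).trans (add_sub_cancel _ _)

/-- Five lemma in the second variable. -/
lemma bij_obj₂_right (T : Triangle D) (hT : T ∈ distTriang D) (X : D)
    (h₁ : ∀ n : ℤ, Bij Φ X (T.obj₁⟦n⟧)) (h₃ : ∀ n : ℤ, Bij Φ X (T.obj₃⟦n⟧)) :
    Bij Φ X T.obj₂ := by
  have h0 : ∀ {Z : D}, (∀ n : ℤ, Bij Φ X (Z⟦n⟧)) → Bij Φ X Z := fun h =>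
    bij_of_iso Φ (Iso.refl _) ((shiftFunctorZero D ℤ).app _) (h 0)
  have hT' := inv_rot_of_distTriang _ hT
  have hinj : ∀ u : X ⟶ T.obj₂, Φ.map u = 0 → u = 0 := by
    intro u hu
    obtain ⟨v, rfl⟩ := T.coyoneda_exact₂ hT u ((h0 h₃).1 (by
      simp only [Φ.map_comp, hu, zero_comp, Φ.map_zero]))
    rw [Φ.map_comp] at hu
    obtain ⟨w, hw⟩ := Triangle.coyoneda_exact₂ _ (Φ.map_distinguished _ hT') (Φ.map v) hu
    obtain ⟨s, rfl⟩ := (h₃ (-1)).2 w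
    have : v = s ≫ T.invRotate.mor₁ := (h0 h₁).1 (hw.trans (Φ.map_comp _ _).symm)
    rw [this]
    exact (Category.assoc _ _ _).trans
      ((congrArg (s ≫ ·) (comp_distTriang_mor_zero₁₂ _ hT')).trans comp_zero)
  refine ⟨fun u v huv => sub_eq_zero.1 (hinj _ (by rw [Φ.map_sub]; exact sub_eq_zero.2 huv)), fun y => ?_⟩
  obtain ⟨x₃, hx₃⟩ := (h0 h₃).2 (y ≫ Φ.map T.mor₂)
  simp only at hx₃
  have hx0 : x₃ ≫ T.mor₃ = 0 := (h₁ 1).1 (by
    change Φ.map (x₃ ≫ T.mor₃) = Φ.map 0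
    rw [Φ.map_comp, hx₃, Category.assoc, ← Φ.map_comp, comp_distTriang_mor_zero₂₃ _ hT,
      Φ.map_zero, Φ.map_zero, comp_zero])
  obtain ⟨x, rfl⟩ := T.coyoneda_exact₃ hT x₃ hx0
  obtain ⟨z, hz⟩ := Triangle.coyoneda_exact₂ _ (Φ.map_distinguished _ hT) (y - Φ.map x)
    (by change (y - Φ.map x) ≫ Φ.map T.mor₂ = 0
        rw [Preadditive.sub_comp, ← Φ.map_comp, hx₃, sub_self])
  obtain ⟨z', rfl⟩ := (h0 h₁).2 z
  refine ⟨x + z' ≫ T.mor₁, ?_⟩
  change Φ.map (x + z' ≫ T.mor₁) = y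
  rw [Φ.map_add, Φ.map_comp]
  exact (congrArg (Φ.map x + ·) hz.symm).trans (add_sub_cancel _ _)

end Tri

variable {A : Type u} [Category.{v} A] [Abelian A] [HasDerivedCategory.{w} A]
  (P : ObjectProperty A) [WSerre.IsWeakSerre P]

/-- Dévissage: a property of bounded objects with cohomology in `P`. -/
theorem prop_of_cohInBdd (R : DerivedCategory A → Prop)
    (hiso : ∀ {X Y : DerivedCategory A}, (X ≅ Y) → R X → R Y)
    (htri : ∀ T : Triangle (DerivedCategory A), T ∈ distTriang _ → R T.obj₁ → R T.obj₃ → R T.obj₂)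
    (hsingle : ∀ (M : A) (q : ℤ), P M → R ((singleFunctor A q).obj M))
    (X : DerivedCategory A) (hX : WSerre.cohInBdd P X) : R X := by
  obtain ⟨hX, ⟨a, ha⟩, ⟨b, hb⟩⟩ := hX
  suffices H : ∀ (m : ℕ) (X : DerivedCategory A) (a : ℤ) [X.IsGE a] [X.IsLE (a + m)],
      WSerre.cohIn P X → R X by
    have : X.IsGE a := ha
    have : X.IsLE (a + (b - a).toNat) :=
      DerivedCategory.TStructure.t.isLE_of_le X b _ (by omega)
    exact H (b - a).toNat X a hX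
  intro m
  induction m with
  | zero =>
    intro X a _ hLE hX
    have : X.IsLE a := by simpa using hLE
    exact hiso (nonempty_iso_single X a).some.symm (hsingle _ a (hX a))
  | succ m ih =>
    intro X a hGE hLE hX
    obtain ⟨b, hb⟩ : ∃ b, b = a + (m + 1 : ℕ) := ⟨_, rfl⟩
    rw [← hb] at hLE
    refine htri _ (TStructure.t.triangleLTGE_distinguished b X) ?_ ?_
    · change R ((TStructure.t.truncLT b).obj X)
      have : ((TStructure.t.truncLT b).obj X).IsLE (a + m) :=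
        TStructure.t.isLE_truncLT_obj X b (a + m) (by omega)
      have : ((TStructure.t.truncLT b).obj X).IsGE a :=
        inferInstanceAs (TStructure.t.IsGE ((TStructure.t.truncLT b).obj X) a)
      exact ih _ a (cohIn_truncLT P hX b)
    · change R ((TStructure.t.truncGE b).obj X)
      have : ((TStructure.t.truncGE b).obj X).IsGE b :=
        inferInstanceAs (TStructure.t.IsGE ((TStructure.t.truncGE b).obj X) b)
      have : ((TStructure.t.truncGE b).obj X).IsLE b :=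
        inferInstanceAs (TStructure.t.IsLE ((TStructure.t.truncGE b).obj X) b)
      exact hiso (nonempty_iso_single ((TStructure.t.truncGE b).obj X) b).some.symm
        (hsingle _ b (cohIn_truncGE P hX b b))

omit [WSerre.IsWeakSerre P] in
lemma cohInBdd_shift [P.IsClosedUnderIsomorphisms] {X : DerivedCategory A}
    (h : WSerre.cohInBdd P X) (n : ℤ) (hc : WSerre.cohIn P (X⟦n⟧)) : WSerre.cohInBdd P (X⟦n⟧) :=
  ⟨hc, ObjectProperty.le_shift (TStructure.t : Triangulated.TStructure (DerivedCategory A)).bounded n _ h.2⟩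

variable {B : Type u'} [Category.{v'} B] [Abelian B] [HasDerivedCategory.{w'} B]
  (Q : ObjectProperty B) [WSerre.IsWeakSerre Q]
  (F : A ⥤ B) [F.Additive] [PreservesFiniteLimits F] [PreservesFiniteColimits F]

/-- The bounded equivalence criterion. -/
theorem mapDerivedCategory_equivalence_cohInBdd (h1 : ∀ M, P M → Q (F.obj M))
    (hess : ∀ N, Q N → ∃ M, P M ∧ Nonempty (F.obj M ≅ N))
    (h2 : ∀ (M M' : A), P M → P M' → ∀ n : ℤ,
      Bij F.mapDerivedCategory ((singleFunctor A 0).obj M) (((singleFunctor A 0).obj M')⟦n⟧)) :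
    (∀ K, WSerre.cohInBdd P K → WSerre.cohInBdd Q (F.mapDerivedCategory.obj K)) ∧
      (∀ K L, WSerre.cohInBdd P K → WSerre.cohInBdd P L → Bij F.mapDerivedCategory K L) ∧
      (∀ N, WSerre.cohInBdd Q N → ∃ K, WSerre.cohInBdd P K ∧
        Nonempty (F.mapDerivedCategory.obj K ≅ N)) := by
  let Φ := F.mapDerivedCategory
  have hmap : ∀ K, WSerre.cohInBdd P K → WSerre.cohInBdd Q (Φ.obj K) := by
    rintro K ⟨hK, ⟨a, ha⟩, ⟨b, hb⟩⟩
    refine ⟨fun i => ?_, ⟨a, ?_⟩, ⟨b, ?_⟩⟩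
    · exact Q.prop_of_iso (nonempty_homology_mapDerivedCategory F K i).some.symm (h1 _ (hK i))
    · have : K.IsGE a := ha
      exact isGE_mapDerivedCategory F K a
    · have : K.IsLE b := hb
      exact isLE_mapDerivedCategory F K b
  have es : ∀ (M : A) (q : ℤ), ((singleFunctor A 0).obj M)⟦-q⟧ ≅ (singleFunctor A q).obj M := fun M q =>
    ((singleFunctors A).shiftIso (-q) q 0 (by omega)).app M
  have hbij : ∀ K L, WSerre.cohInBdd P K → WSerre.cohInBdd P L → ∀ n : ℤ, Bij Φ K (L⟦n⟧) := by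
    intro K L hK hL
    refine prop_of_cohInBdd P (fun X => ∀ n : ℤ, Bij Φ X (L⟦n⟧)) (fun e h n => bij_of_iso Φ e (Iso.refl _) (h n))
      (fun T hT h₁ h₃ n => bij_obj₂_left Φ T hT _
        (fun m => bij_of_iso Φ (Iso.refl _) ((shiftFunctorAdd' _ n m (n + m) rfl).app L) (h₁ _))
        (fun m => bij_of_iso Φ (Iso.refl _) ((shiftFunctorAdd' _ n m (n + m) rfl).app L) (h₃ _)))
      (fun M q hM => ?_) K hK
    refine prop_of_cohInBdd P (fun Y => ∀ n : ℤ, Bij Φ ((singleFunctor A q).obj M) (Y⟦n⟧))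
      (fun e h n => bij_of_iso Φ (Iso.refl _) ((shiftFunctor _ n).mapIso e) (h n))
      (fun T hT h₁ h₃ n => ?_) (fun M' p hM' n => ?_) L hL
    · have hT' := Triangle.shift_distinguished T hT n
      exact bij_obj₂_right Φ _ hT' _
        (fun m => bij_of_iso Φ (Iso.refl _) ((shiftFunctorAdd' _ n m (n + m) rfl).app T.obj₁) (h₁ _))
        (fun m => bij_of_iso Φ (Iso.refl _) ((shiftFunctorAdd' _ n m (n + m) rfl).app T.obj₃) (h₃ _))
    · refine bij_of_iso Φ (es M q) ((shiftFunctorAdd' _ (-p) n (-p + n) rfl).app _ ≪≫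
        (shiftFunctor _ n).mapIso (es M' p)) (bij_shift Φ (h2 M M' hM hM') (-q) (-p + n))
  have hbij0 : ∀ K L, WSerre.cohInBdd P K → WSerre.cohInBdd P L → Bij Φ K L := fun K L hK hL =>
    bij_of_iso Φ (Iso.refl _) ((shiftFunctorZero _ ℤ).app L) (hbij K L hK hL 0)
  refine ⟨hmap, hbij0, fun N hN => ?_⟩
  refine prop_of_cohInBdd Q (fun N => ∃ K, WSerre.cohInBdd P K ∧ Nonempty (Φ.obj K ≅ N))
    (fun e ⟨K, hK, ⟨e'⟩⟩ => ⟨K, hK, ⟨e' ≪≫ e⟩⟩) (fun T hT => ?_) (fun M q hM => ?_) N hN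
  · rintro ⟨K₁, hK₁, ⟨e₁⟩⟩ ⟨K₃, hK₃, ⟨e₃⟩⟩
    obtain ⟨d, hd⟩ := (hbij K₃ K₁ hK₃ hK₁ 1).2
      (e₃.hom ≫ T.mor₃ ≫ e₁.inv⟦(1 : ℤ)⟧' ≫ (Φ.commShiftIso (1 : ℤ)).inv.app K₁)
    obtain ⟨K₂, g₁, g₂, hK⟩ := distinguished_cocone_triangle₂ d
    have hK' := Φ.map_distinguished _ hK
    have comm : (Φ.mapTriangle.obj (Triangle.mk g₁ g₂ d)).mor₃ ≫ e₁.hom⟦(1 : ℤ)⟧' = e₃.hom ≫ T.mor₃ := by
      change (Φ.map d ≫ (Φ.commShiftIso (1 : ℤ)).hom.app K₁) ≫ e₁.hom⟦(1 : ℤ)⟧' = _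
      rw [show Φ.map d = _ from hd]
      simp only [Category.assoc, Iso.inv_hom_id_app_assoc, ← Functor.map_comp, Iso.inv_hom_id]
      simp
    obtain ⟨b, hb₁, hb₂⟩ := complete_distinguished_triangle_morphism₂ _ _ hK' hT e₁.hom e₃.hom comm
    let φ : Φ.mapTriangle.obj (Triangle.mk g₁ g₂ d) ⟶ T :=
      { hom₁ := e₁.hom, hom₂ := b, hom₃ := e₃.hom, comm₁ := hb₁, comm₂ := hb₂, comm₃ := comm }
    have : IsIso φ.hom₂ := isIso₂_of_isIso₁₃ φ hK' hT
      (inferInstanceAs (IsIso e₁.hom)) (inferInstanceAs (IsIso e₃.hom))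
    refine ⟨K₂, ⟨cohIn_obj₂ P hK hK₁.1 hK₃.1, ?_⟩, ⟨@asIso _ _ _ _ φ.hom₂ this⟩⟩
    exact ObjectProperty.ext_of_isTriangulatedClosed₂ _ _ hK hK₁.2 hK₃.2
  · obtain ⟨M', hM', ⟨e⟩⟩ := hess M hM
    refine ⟨(singleFunctor A q).obj M', ⟨cohIn_single P hM' q, ⟨q, ?_⟩, ⟨q, ?_⟩⟩,
      ⟨(F.mapDerivedCategorySingleFunctor q).app M' ≪≫ (singleFunctor B q).mapIso e⟩⟩
    · exact inferInstanceAs (((singleFunctor A q).obj M').IsGE q)
    · exact inferInstanceAs (((singleFunctor A q).obj M').IsLE q)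

end GrothLib.DerTrunc
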