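import Mathlib.Algebra.Homology.DerivedCategory.Ext.ExactSequences
import Mathlib.Algebra.Homology.DerivedCategory.Fractions

/-! # Yoneda effaceability of higher Ext -/

universe w v u

open CategoryTheory CategoryTheory.Limits CategoryTheory.Abelian

namespace GrothLib.DerCat

variable {A : Type u} [Category.{v} A] [Abelian A]

/-- A positive degree Ext class dies after pulling back along some epimorphism. -/
theorem exists_epi_comp_eq_zero [HasExt.{w} A] {B C : A} {n : ℕ} (hn : n ≠ 0) (x : Ext B C n) :
    ∃ (B' : A) (e : B' ⟶ B), Epi e ∧ (Ext.mk₀ e).comp x (zero_add n) = 0 := by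
  let := HasDerivedCategory.standard A
  let B₀ := (CochainComplex.singleFunctor A 0).obj B
  let C₀ := (CochainComplex.singleFunctor A 0).obj C
  let φ : DerivedCategory.Q.obj B₀ ⟶ DerivedCategory.Q.obj (C₀⟦(n : ℤ)⟧) :=
    x.hom ≫ (DerivedCategory.Q.commShiftIso (n : ℤ)).inv.app C₀
  obtain ⟨K, hK, s, hs, g, hφ⟩ := DerivedCategory.right_fac_of_isStrictlyLE φ 0
  have : K.d 0 1 = 0 := (K.isZero_of_isStrictlyLE 0 1 (by omega)).eq_of_tgt _ _
  let u : (CochainComplex.singleFunctor A 0).obj (K.X 0) ⟶ K :=
    HomologicalComplex.mkHomFromSingle (𝟙 _) fun k hk => by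
      obtain rfl : (0 : ℤ) + 1 = k := hk
      simpa using this
  obtain ⟨e, he⟩ := (CochainComplex.singleFunctor A 0).map_surjective (u ≫ s)
  have hqis : QuasiIso s := by rwa [← DerivedCategory.isIso_Q_map_iff_quasiIso]
  have hepi : Epi (s.f 0) := by
    have h1 : IsIso (HomologicalComplex.homologyMap s 0) := inferInstance
    have : Epi (HomologicalComplex.cyclesMap s 0) := by
      have : IsIso (HomologicalComplex.homologyπ B₀ 0) :=
        HomologicalComplex.isIso_homologyπ B₀ (-1) 0 (by simp)
          ((HomologicalComplex.isZero_single_obj_X (ComplexShape.up ℤ) 0 B (-1) (by omega)).eq_of_src _ _)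
      have e1 := HomologicalComplex.homologyπ_naturality s 0
      rw [show HomologicalComplex.cyclesMap s 0 =
        (K.homologyπ 0 ≫ HomologicalComplex.homologyMap s 0) ≫ inv (B₀.homologyπ 0) by
          rw [e1, Category.assoc, IsIso.hom_inv_id, Category.comp_id]]
      infer_instance
    have : IsIso (B₀.iCycles 0) := HomologicalComplex.isIso_iCycles B₀ 0 1 (by simp)
      ((HomologicalComplex.isZero_single_obj_X (ComplexShape.up ℤ) 0 B 1 (by omega)).eq_of_tgt _ _)
    exact epi_of_epi_fac (HomologicalComplex.cyclesMap_i s 0).symm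
  have hee : Epi e := by
    have h2 := congrArg (fun ψ => ψ.f 0) he
    simp [u, HomologicalComplex.mkHomFromSingle, HomologicalComplex.single_map_f_self] at h2
    have : Epi ((HomologicalComplex.singleObjXSelf (ComplexShape.up ℤ) 0 (K.X 0)).hom ≫ e ≫
        (HomologicalComplex.singleObjXSelf (ComplexShape.up ℤ) 0 B).inv) := by
      erw [← HomologicalComplex.single_map_f_self]
      erw [h2]
      exact @epi_comp _ _ _ _ _ _ (IsIso.epi_of_iso _) _ hepi
    rw [← Category.comp_id e,
      ← (HomologicalComplex.singleObjXSelf (ComplexShape.up ℤ) 0 B).inv_hom_id, ← Category.assoc]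
    have := epi_of_epi ((HomologicalComplex.singleObjXSelf (ComplexShape.up ℤ) 0 (K.X 0)).hom)
      (e ≫ (HomologicalComplex.singleObjXSelf (ComplexShape.up ℤ) 0 B).inv)
    infer_instance
  refine ⟨K.X 0, e, hee, Ext.ext ?_⟩
  have hzero : u ≫ g = 0 := by
    refine HomologicalComplex.from_single_hom_ext ?_
    exact IsZero.eq_of_tgt (HomologicalComplex.isZero_single_obj_X (ComplexShape.up ℤ) 0 C
      (0 + (n : ℤ)) (by omega)) _ _
  have hz : DerivedCategory.Q.map ((CochainComplex.singleFunctor A 0).map e) ≫ φ = 0 := by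
    rw [hφ, he, Functor.map_comp, Category.assoc, IsIso.hom_inv_id_assoc, ← Functor.map_comp, hzero,
      Functor.map_zero]
  rw [Ext.comp_hom, Ext.mk₀_hom, ShiftedHom.mk₀_comp, Ext.zero_hom]
  apply (cancel_mono ((DerivedCategory.Q.commShiftIso (n : ℤ)).inv.app C₀)).1
  exact (Category.assoc _ _ _).trans (hz.trans zero_comp.symm)

theorem ext_eq_zero_of_le [HasExt.{w} A] (p : ℕ) (h : ∀ (B C : A) (x : Ext B C p), x = 0)
    (i : ℕ) (hi : p ≤ i) (B C : A) (x : Ext B C i) : x = 0 := by
  induction i, hi using Nat.le_induction generalizing B C with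
  | base => exact h B C x
  | succ i _ ih =>
    obtain ⟨B', e, he, hx⟩ := exists_epi_comp_eq_zero (Nat.succ_ne_zero i) x
    let S := ShortComplex.mk (kernel.ι e) e (kernel.condition e)
    have hS : S.ShortExact :=
      { exact := ShortComplex.exact_of_f_is_kernel _ (kernelIsKernel e) }
    obtain ⟨y, rfl⟩ := Ext.contravariant_sequence_exact₃ hS C x hx (add_comm 1 i)
    rw [ih _ _ y, Ext.comp_zero]

end GrothLib.DerCat
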