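import Groth.Agent.Lib.DerCat.DimShiftRD

/-!
# Vanishing of right derived functors passes to extensions
-/

universe v v' u u'

open CategoryTheory CategoryTheory.Limits

set_option backward.isDefEq.respectTransparency false

namespace GrothLib.HomGamma

variable {A : Type u} [Category.{v} A] [Abelian A] [EnoughInjectives A]
  {B : Type u'} [Category.{v'} B] [Abelian B] (Φ : A ⥤ B) [Φ.Additive] [PreservesFiniteLimits Φ]

/-- A short exact sequence sits in one of embeddings into injectives. -/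
theorem exists_horseshoe (S : ShortComplex A) (hS : S.ShortExact) :
    ∃ (T₁ T₂ T₃ : ShortComplex A) (φ : T₁ ⟶ T₂) (ψ : T₂ ⟶ T₃),
      T₁.X₁ = S.X₁ ∧ T₂.X₁ = S.X₂ ∧ T₃.X₁ = S.X₃ ∧
      T₁.ShortExact ∧ T₂.ShortExact ∧ T₃.ShortExact ∧
      Injective T₁.X₂ ∧ Injective T₂.X₂ ∧ Injective T₃.X₂ ∧
      (∃ s : T₃.X₂ ⟶ T₂.X₂, s ≫ ψ.τ₂ = 𝟙 _) ∧
      ∃ h : φ.τ₃ ≫ ψ.τ₃ = 0, (ShortComplex.mk φ.τ₃ ψ.τ₃ h).ShortExact := by
  have := hS.mono_f
  have := hS.epi_g
  let jB := Injective.ι S.X₁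
  let jH := Injective.ι S.X₃
  let e : S.X₂ ⟶ Injective.under S.X₁ := Injective.factorThru jB S.f
  have he : S.f ≫ e = jB := Injective.comp_factorThru _ _
  let jZ : S.X₂ ⟶ Injective.under S.X₁ ⊞ Injective.under S.X₃ := biprod.lift e (S.g ≫ jH)
  have : Mono jZ := by
    refine Preadditive.mono_of_cancel_zero _ fun {V} x hx => ?_
    have h1 : x ≫ e = 0 := by simpa [jZ] using hx =≫ biprod.fst
    have h2 : x ≫ S.g = 0 := by
      rw [← cancel_mono jH]; simpa [jZ] using hx =≫ biprod.snd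
    obtain ⟨V₁, q, hq, t, ht⟩ := hS.exact.exact_up_to_refinements x h2
    have : t ≫ jB = 0 := by rw [← he, ← Category.assoc, ← ht, Category.assoc, h1, comp_zero]
    rw [← cancel_epi q, ht, zero_of_comp_mono jB this, zero_comp, comp_zero]
  let T₁ : ShortComplex A := ShortComplex.mk jB (cokernel.π jB) (cokernel.condition _)
  let T₂ : ShortComplex A := ShortComplex.mk jZ (cokernel.π jZ) (cokernel.condition _)
  let T₃ : ShortComplex A := ShortComplex.mk jH (cokernel.π jH) (cokernel.condition _)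
  have h₁ : T₁.ShortExact := { exact := ShortComplex.exact_of_g_is_cokernel _ (cokernelIsCokernel jB) }
  have h₂ : T₂.ShortExact := { exact := ShortComplex.exact_of_g_is_cokernel _ (cokernelIsCokernel jZ) }
  have h₃ : T₃.ShortExact := { exact := ShortComplex.exact_of_g_is_cokernel _ (cokernelIsCokernel jH) }
  have w₁ : jB ≫ biprod.inl = S.f ≫ jZ := biprod.hom_ext _ _ (by simp [jZ, he]) (by simp [jZ])
  have w₂ : jZ ≫ biprod.snd = S.g ≫ jH := biprod.lift_snd _ _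
  let φ : T₁ ⟶ T₂ :=
    { τ₁ := S.f, τ₂ := biprod.inl, τ₃ := cokernel.map jB jZ S.f biprod.inl w₁
      comm₁₂ := w₁.symm
      comm₂₃ := (cokernel.π_desc _ _ _).symm }
  let ψ : T₂ ⟶ T₃ :=
    { τ₁ := S.g, τ₂ := biprod.snd, τ₃ := cokernel.map jZ jH S.g biprod.snd w₂
      comm₁₂ := w₂.symm
      comm₂₃ := (cokernel.π_desc _ _ _).symm }
  have hφ : cokernel.π jB ≫ φ.τ₃ = biprod.inl ≫ cokernel.π jZ := cokernel.π_desc _ _ _
  have hψ : cokernel.π jZ ≫ ψ.τ₃ = biprod.snd ≫ cokernel.π jH := cokernel.π_desc _ _ _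
  have hw : φ.τ₃ ≫ ψ.τ₃ = 0 := by
    rw [← cancel_epi (cokernel.π jB)]
    erw [reassoc_of% hφ, hψ, biprod.inl_snd_assoc, zero_comp]
    exact comp_zero.symm
  refine ⟨T₁, T₂, T₃, φ, ψ, rfl, rfl, rfl, h₁, h₂, h₃, inferInstanceAs (Injective (Injective.under S.X₁)),
    inferInstanceAs (Injective (Injective.under S.X₁ ⊞ Injective.under S.X₃)),
    inferInstanceAs (Injective (Injective.under S.X₃)), ⟨biprod.inr, biprod.inr_snd⟩, hw, ?_⟩
  refine { exact := ?_, mono_f := ?_, epi_g := ?_ }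
  · rw [ShortComplex.exact_iff_exact_up_to_refinements]
    intro V x hx
    obtain ⟨V₁, p, hp, y, hy⟩ := surjective_up_to_refinements_of_epi (cokernel.π jZ) x
    have hy0 : (y ≫ biprod.snd) ≫ cokernel.π jH = 0 := by
      rw [Category.assoc, ← hψ, ← Category.assoc, ← hy, Category.assoc]
      erw [hx, comp_zero]
    obtain ⟨V₂, q, hq, t, ht⟩ := h₃.exact.exact_up_to_refinements (y ≫ biprod.snd) hy0
    obtain ⟨V₃, r, hr, z, hz⟩ := surjective_up_to_refinements_of_epi S.g t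
    refine ⟨V₃, r ≫ q ≫ p, inferInstance,
      ((r ≫ q ≫ y - z ≫ jZ) ≫ biprod.fst) ≫ cokernel.π jB, ?_⟩
    have hd : (r ≫ q ≫ y - z ≫ jZ) = ((r ≫ q ≫ y - z ≫ jZ) ≫ biprod.fst) ≫ biprod.inl := by
      refine biprod.hom_ext _ _ (by simp) ?_
      have hq' : q ≫ y ≫ biprod.snd = t ≫ jH := ht
      rw [Category.assoc _ biprod.inl, biprod.inl_snd, comp_zero, Preadditive.sub_comp,
        Category.assoc, Category.assoc, Category.assoc, w₂, hq', ← Category.assoc z, ← hz,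
        Category.assoc, sub_self]
    dsimp
    rw [Category.assoc (((r ≫ q ≫ y) - z ≫ jZ) ≫ biprod.fst)]
    erw [hφ]
    refine Eq.trans ?_ ((congrArg (· ≫ cokernel.π jZ) hd).trans (Category.assoc _ _ _))
    rw [Preadditive.sub_comp, Category.assoc z, cokernel.condition, comp_zero, sub_zero]
    simp only [Category.assoc, hy]
  · refine Preadditive.mono_of_cancel_zero _ fun {V} x hx => ?_
    obtain ⟨V₁, p, hp, y, hy⟩ := surjective_up_to_refinements_of_epi (cokernel.π jB) x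
    have h0 : (y ≫ biprod.inl) ≫ cokernel.π jZ = 0 := by
      rw [Category.assoc, ← hφ, ← Category.assoc, ← hy, Category.assoc]
      erw [hx, comp_zero]
    obtain ⟨V₂, q, hq, z, hz⟩ := h₂.exact.exact_up_to_refinements (y ≫ biprod.inl) h0
    change q ≫ y ≫ biprod.inl = z ≫ jZ at hz
    have hg : z ≫ S.g = 0 := by
      rw [← cancel_mono jH, Category.assoc, ← w₂, ← Category.assoc, ← hz]
      simp
    obtain ⟨V₃, r, hr, t, ht⟩ := hS.exact.exact_up_to_refinements z hg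
    have hy' : r ≫ q ≫ y = t ≫ jB := by
      have := hz =≫ biprod.fst
      simp only [jZ, Category.assoc, biprod.inl_fst, Category.comp_id, biprod.lift_fst] at this
      rw [this, ← Category.assoc, ht, Category.assoc, he]
    rw [← cancel_epi p, hy, comp_zero, ← cancel_epi q, ← cancel_epi r, ← Category.assoc q,
      ← Category.assoc r, hy', Category.assoc, cokernel.condition]
    simp
  · have : Epi (cokernel.π jZ ≫ ψ.τ₃) := by
      rw [hψ]; exact epi_comp _ _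
    exact epi_of_epi (cokernel.π jZ) ψ.τ₃

/-- `R^p` vanishing passes to extensions. -/
theorem isZero_rightDerived_X₂ (k : ℕ) : ∀ (S : ShortComplex A), S.ShortExact →
    IsZero ((Φ.rightDerived (k + 1)).obj S.X₁) → IsZero ((Φ.rightDerived (k + 1)).obj S.X₃) →
    IsZero ((Φ.rightDerived (k + 1)).obj S.X₂) := by
  induction k with
  | zero =>
    intro S hS hB hH
    obtain ⟨T₁, T₂, T₃, φ, ψ, e₁, e₂, e₃, h₁, h₂, h₃, i₁, i₂, i₃, ⟨s, hs⟩, w, hC⟩ :=
      exists_horseshoe S hS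
    rw [← e₁] at hB; rw [← e₃] at hH; rw [← e₂]
    have eB : Epi (Φ.map T₁.g) := epi_map_g_of_isZero h₁ Φ hB
    have eH : Epi (Φ.map T₃.g) := epi_map_g_of_isZero h₃ Φ hH
    refine IsZero.of_iso ?_ (shiftIsoOne h₂ Φ)
    have : Epi (Φ.map T₂.g) := by
      rw [epi_iff_surjective_up_to_refinements]
      intro W y
      obtain ⟨W₁, p, hp, z, hz⟩ := surjective_up_to_refinements_of_epi (Φ.map T₃.g) (y ≫ Φ.map ψ.τ₃)
      have := hC.mono_f
      have hex := hC.exact.map_of_mono_of_preservesKernel Φ inferInstance inferInstance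
      obtain ⟨W₂, q, hq, x, hx⟩ := hex.exact_up_to_refinements (p ≫ y - (z ≫ Φ.map s) ≫ Φ.map T₂.g) (by
        change (p ≫ y - (z ≫ Φ.map s) ≫ Φ.map T₂.g) ≫ Φ.map ψ.τ₃ = 0
        simp only [Preadditive.sub_comp, Category.assoc, ← Φ.map_comp]
        rw [hz, ← ψ.comm₂₃, reassoc_of% hs, sub_self])
      change q ≫ (p ≫ y - (z ≫ Φ.map s) ≫ Φ.map T₂.g) = x ≫ Φ.map φ.τ₃ at hx
      obtain ⟨W₃, r, hr, b, hb⟩ := surjective_up_to_refinements_of_epi (Φ.map T₁.g) x
      refine ⟨W₃, r ≫ q ≫ p, inferInstance, r ≫ q ≫ z ≫ Φ.map s + b ≫ Φ.map φ.τ₂, ?_⟩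
      rw [Preadditive.comp_sub, sub_eq_iff_eq_add] at hx
      simp only [Category.assoc, hx, Preadditive.comp_add, Preadditive.add_comp, reassoc_of% hb,
        ← Φ.map_comp, φ.comm₂₃]
      abel
    exact isZero_cokernel_of_epi _
  | succ k ih =>
    intro S hS hB hH
    obtain ⟨T₁, T₂, T₃, φ, ψ, e₁, e₂, e₃, h₁, h₂, h₃, i₁, i₂, i₃, ⟨s, hs⟩, w, hC⟩ :=
      exists_horseshoe S hS
    rw [← e₁] at hB; rw [← e₃] at hH; rw [← e₂]
    refine IsZero.of_iso ?_ (shiftIso h₂ Φ k)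
    exact ih (ShortComplex.mk φ.τ₃ ψ.τ₃ w) hC (hB.of_iso (shiftIso h₁ Φ k).symm)
      (hH.of_iso (shiftIso h₃ Φ k).symm)

end GrothLib.HomGamma
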