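import Groth.Agent.Lib.PC.Limit
import Groth.Agent.Lib.PC.Consequences
import Groth.Agent.Lib.PC.Devissage
import Mathlib.Algebra.Homology.DerivedCategory.SingleTriangle

/-! # Left resolutions by a class of objects of which every object is a quotient -/

set_option autoImplicit false

universe w v u

open CategoryTheory CategoryTheory.Limits DerivedCategory

namespace GrothLib.DerCat

variable {C : Type u} [Category.{v} C] [Abelian C] (P : ObjectProperty C)
  [P.IsClosedUnderIsomorphisms] [P.ContainsZero] (hsum : ∀ X Y : C, P X → P Y → P (X ⨯ Y))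
  (hP : ∀ X : C, ∃ (Y : C) (π : Y ⟶ X), P Y ∧ Epi π)

include hP in
omit [P.IsClosedUnderIsomorphisms] [P.ContainsZero] in
theorem isQuasiStable_of_quot : PCoh.IsQuasiStableUnderKernels P := fun K _ _ _ => hP (K.X 0)

include hP in
omit [P.IsClosedUnderIsomorphisms] [P.ContainsZero] in
theorem isQuasiLiftable_of_quot : PCoh.IsQuasiLiftable P := fun E F u hu _ => by
  obtain ⟨F', v, hF', hv⟩ := hP E
  exact ⟨F', v, hF', epi_comp v u⟩

variable [HasDerivedCategory.{w} C]

include hsum hP in
theorem pcn_single₀_of_quot : ∀ (k : ℕ) (n : ℤ), 1 - (k : ℤ) ≤ n → ∀ Y : C,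
    PC.PCn P n ((singleFunctor C 0).obj Y)
  | 0, n, hn, Y => PC.pcn_of_isZero_homology P fun i hi => PC.isZero_homology_single 0 i (by omega) Y
  | k + 1, n, hn, Y => by
    obtain ⟨Y', π, hY', hπ⟩ := hP Y
    have hS : (ShortComplex.mk (kernel.ι π) π (kernel.condition π)).ShortExact :=
      { exact := ShortComplex.exact_of_f_is_kernel _ (kernelIsKernel π) }
    exact PC.pcn_obj₃ P hsum (isQuasiStable_of_quot P hP) (isQuasiLiftable_of_quot P hP)
      hS.singleTriangle_distinguished (pcn_single₀_of_quot k (n + 1) (by push_cast at hn; omega) (kernel π))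
      (PC.pcn_single_of_mem P hY' n)

include hsum hP in
/-- Every object bounded above is pseudo-coherent for such a class. -/
theorem pcn_of_quot (F : DerivedCategory C) (b : ℤ)
    (hb : ∀ i, b < i → IsZero ((homologyFunctor C i).obj F)) (n : ℤ) : PC.PCn P n F :=
  PC.pcn_of_homology P hsum (isQuasiStable_of_quot P hP) (isQuasiLiftable_of_quot P hP) F b hb fun i _ =>
    pcn_single₀_of_quot P hsum hP (1 - (n - i)).toNat (n - i) (by omega) _

include hsum hP in
/-- Complexes with cohomology bounded above have resolutions by complexes in the class. -/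
theorem exists_quot_resolution (F : CochainComplex C ℤ) (b : ℤ)
    (hb : ∀ i, b < i → IsZero ((homologyFunctor C i).obj (Q.obj F))) :
    ∃ (L : CochainComplex C ℤ) (s : L ⟶ F), (∀ i, P (L.X i)) ∧ QuasiIso s ∧ ∀ i, b < i → IsZero (L.X i) := by
  obtain ⟨L, s, hL, hs, hz⟩ := PC.exists_strictAll_resolution P hsum (isQuasiStable_of_quot P hP)
    (isQuasiLiftable_of_quot P hP) (pcn_of_quot P hsum hP _ b hb) (b + 1) fun i hi => hb i (by omega)
  exact ⟨L, s, hL.2, hs, fun i hi => hz i (by omega)⟩

end GrothLib.DerCat
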