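import Groth.Agent.Lib.DerCat.Stupid
import Groth.Agent.Lib.DerCat.QuotResolution
import Groth.Agent.Lib.TriCat.FinHom
import Groth.Agent.Lib.HoCat.DerivedCoproduct
import Mathlib.CategoryTheory.Abelian.GrothendieckCategory.Basic
import Mathlib.CategoryTheory.Retract

/-! # Compact objects of a derived category are retracts of bounded complexes of small generators -/

set_option autoImplicit false
set_option maxHeartbeats 800000

universe w v u

attribute [local instance] CategoryTheory.Abelian.hasFiniteBiproducts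

open CategoryTheory CategoryTheory.Limits DerivedCategory Pretriangulated Opposite

namespace GrothLib.DerCat

attribute [local instance] Classical.decEq

section Support

variable {D : Type*} [Category D] [Preadditive D] {ι : Type*} (X : ι → D) [HasCoproduct X]

theorem exists_finset_of_finHom {P : D} (h : TriCat.FinHom X P) (φ : P ⟶ ∐ X) :
    ∃ (s : Finset ι) (x : ∀ i, P ⟶ X i), φ = ∑ i ∈ s, x i ≫ Sigma.ι X i := by
  obtain ⟨d, rfl⟩ := h φ
  refine ⟨DFinsupp.support d, fun i => d i, ?_⟩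
  conv_lhs => rw [← DirectSum.sum_support_of d]
  rw [map_sum]
  exact Finset.sum_congr rfl fun i _ => TriCat.homSum_of X P i _

theorem exists_finset_π {P : D} (h : TriCat.FinHom X P) (φ : P ⟶ ∐ X) :
    ∃ s : Finset ι, ∀ i, i ∉ s → φ ≫ Sigma.π X i = 0 := by
  obtain ⟨s, x, rfl⟩ := exists_finset_of_finHom X h φ
  refine ⟨s, fun i hi => ?_⟩
  rw [Preadditive.sum_comp]
  refine Finset.sum_eq_zero fun j hj => ?_
  rw [Category.assoc, Sigma.ι_π_of_ne X (fun e : j = i => hi (e ▸ hj)), comp_zero]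

end Support

variable {A : Type u} [Category.{v} A] [Abelian A]

section Classes

variable [HasCoproducts.{v} A] (S : Set A)

/-- Sums of members of `S`. -/
def SumsOf : ObjectProperty A := fun X =>
  ∃ (ι : Type v) (E : ι → A), (∀ i, E i ∈ S) ∧ Nonempty (X ≅ ∐ E)

/-- Finite sums of members of `S`. -/
def FinSumsOf : ObjectProperty A := fun X =>
  ∃ (n : ℕ) (E : Fin n → A), (∀ j, E j ∈ S) ∧ Nonempty (X ≅ ⨁ E)

instance : (SumsOf S).IsClosedUnderIsomorphisms where
  of_iso := fun e ⟨ι, E, hE, ⟨f⟩⟩ => ⟨ι, E, hE, ⟨e.symm ≪≫ f⟩⟩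

theorem sumsOf_of_isZero {Z : A} (hZ : IsZero Z) : SumsOf S Z :=
  ⟨PEmpty.{v + 1}, PEmpty.elim, fun i => i.elim,
    ⟨hZ.iso ((IsZero.iff_id_eq_zero _).2 (Sigma.hom_ext _ _ fun i => i.elim))⟩⟩

instance : (SumsOf S).ContainsZero where
  exists_zero :=
    ⟨∐ (PEmpty.elim : PEmpty.{v + 1} → A),
      (IsZero.iff_id_eq_zero _).2 (Sigma.hom_ext _ _ fun i => i.elim),
      ⟨PEmpty.{v + 1}, PEmpty.elim, fun i => i.elim, ⟨Iso.refl _⟩⟩⟩

theorem finSumsOf_of_isZero {Z : A} (hZ : IsZero Z) : FinSumsOf S Z :=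
  ⟨0, Fin.elim0, fun i => Fin.elim0 i,
    ⟨hZ.iso ((IsZero.iff_id_eq_zero _).2 (biproduct.hom_ext _ _ fun i => Fin.elim0 i))⟩⟩

theorem finSumsOf_of_iso {X Y : A} (e : X ≅ Y) : FinSumsOf S X → FinSumsOf S Y :=
  fun ⟨n, E, hE, ⟨f⟩⟩ => ⟨n, E, hE, ⟨e.symm ≪≫ f⟩⟩

/-- The components of the comparison with a binary biproduct. -/
noncomputable def sumToBiprod {ι κ : Type v} (E : ι → A) (F : κ → A) :
    ∀ i : ι ⊕ κ, Sum.elim E F i ⟶ (∐ E) ⊞ ∐ F
  | Sum.inl i => Sigma.ι E i ≫ biprod.inl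
  | Sum.inr k => Sigma.ι F k ≫ biprod.inr

theorem sumsOf_prod (X Y : A) (hX : SumsOf S X) (hY : SumsOf S Y) : SumsOf S (X ⨯ Y) := by
  obtain ⟨ι, E, hE, ⟨e⟩⟩ := hX
  obtain ⟨κ, F, hF, ⟨f⟩⟩ := hY
  let G : ι ⊕ κ → A := Sum.elim E F
  refine ⟨ι ⊕ κ, G, fun i => i.rec hE hF,
    ⟨(biprod.isoProd X Y).symm ≪≫ biprod.mapIso e f ≪≫
      { hom := biprod.desc (Sigma.desc fun i => Sigma.ι G (Sum.inl i)) (Sigma.desc fun k => Sigma.ι G (Sum.inr k))
        inv := Sigma.desc (sumToBiprod E F)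
        hom_inv_id := biprod.hom_ext' _ _ (Sigma.hom_ext _ _ fun i => by simp [G]; erw [Sigma.ι_desc]; rfl)
          (Sigma.hom_ext _ _ fun k => by simp [G]; erw [Sigma.ι_desc]; rfl)
        inv_hom_id := Sigma.hom_ext _ _ fun i => by cases i <;> (simp [G]; erw [Sigma.ι_desc_assoc]; simp [sumToBiprod]) }⟩⟩

variable {S}

theorem exists_sum_of_coyoneda {E : A} {ι : Type v}
    [PreservesColimitsOfShape (Discrete ι) (preadditiveCoyoneda.obj (op E))] (X : ι → A) (x : E ⟶ ∐ X) :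
    ∃ (s : Finset ι) (y : ∀ i, E ⟶ X i), x = ∑ i ∈ s, y i ≫ Sigma.ι X i := by
  refine exists_finset_of_finHom X (fun x => ?_) x
  let T := preadditiveCoyoneda.obj (op E)
  have hc : IsColimit (Cofan.mk (T.obj (∐ X)) fun i => T.map (Sigma.ι X i)) :=
    isColimitCofanMkObjOfIsColimit T X _ (coproductIsCoproduct X)
  let H : AddSubgroup (E ⟶ ∐ X) := (PerfAux.homSumToHomCoprod E X).range
  let q : T.obj (∐ X) ⟶ AddCommGrpCat.of ((E ⟶ ∐ X) ⧸ H) := AddCommGrpCat.ofHom (QuotientAddGroup.mk' H)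
  have h0 : q = 0 := Cofan.IsColimit.hom_ext hc _ _ fun i => AddCommGrpCat.ext fun y =>
    (QuotientAddGroup.eq_zero_iff _).2 (TriCat.ι_mem_range X E i y)
  exact (QuotientAddGroup.eq_zero_iff _).1 (ConcreteCategory.congr_hom h0 x)

end Classes

section LocFinite

variable {ι : Type v} [HasCoproducts.{v} A] {L : CochainComplex A ℤ} (Y : ι → CochainComplex A ℤ)
  (f : ∀ n, L ⟶ Y n) (N : ℤ → Finset ι) (hN : ∀ i n, n ∉ N i → (f n).f i = 0)

/-- The map into a direct sum with the given degreewise finite components. -/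
noncomputable def locFinLift : L ⟶ ∐ Y where
  f i := ∑ n ∈ N i, (f n).f i ≫ (Sigma.ι Y n).f i
  comm' i j _ := by
    have e : ∀ k, (∀ n, n ∉ N k → (f n).f k = 0) → ∀ s : Finset ι, N k ⊆ s →
        ∑ n ∈ N k, (f n).f k ≫ (Sigma.ι Y n).f k = ∑ n ∈ s, (f n).f k ≫ (Sigma.ι Y n).f k :=
      fun k h s hs => Finset.sum_subset hs fun n _ hn => by rw [h n hn, zero_comp]
    rw [e i (hN i) (N i ∪ N j) Finset.subset_union_left, e j (hN j) (N i ∪ N j) Finset.subset_union_right,
      Preadditive.sum_comp, Preadditive.comp_sum]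
    exact Finset.sum_congr rfl fun n _ => by
      rw [Category.assoc, HomologicalComplex.Hom.comm, HomologicalComplex.Hom.comm_assoc]

theorem locFinLift_π (n : ι) : locFinLift Y f N hN ≫ Sigma.π Y n = f n := by
  ext i
  change (∑ m ∈ N i, (f m).f i ≫ (Sigma.ι Y m).f i) ≫ (Sigma.π Y n).f i = (f n).f i
  rw [Preadditive.sum_comp]
  have h : ∀ m, ((f m).f i ≫ (Sigma.ι Y m).f i) ≫ (Sigma.π Y n).f i =
      (f m).f i ≫ (Sigma.ι Y m ≫ Sigma.π Y n).f i := fun m => by simp
  rw [Finset.sum_eq_single n (fun m _ hm => by rw [h, Sigma.ι_π_of_ne Y hm]; simp)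
    (fun hn => by rw [h, hN i n hn, zero_comp]), h, Sigma.ι_π_eq_id]
  simp

end LocFinite

variable [IsGrothendieckAbelian.{v} A] [HasCoproducts.{v} A] [HasDerivedCategory.{w} A]

/-- Maps from `K` into small sums are finite sums. -/
def IsSmallCompact (K : DerivedCategory A) : Prop :=
  ∀ (ι : Type v) (X : ι → DerivedCategory A) [HasCoproduct X], TriCat.FinHom X K

variable {K : DerivedCategory A}

theorem IsSmallCompact.exists_component_eq_zero (hK : IsSmallCompact K) {L : CochainComplex A ℤ}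
    (φ : K ⟶ Q.obj L) (Y : ℕ → CochainComplex A ℤ) (f : ∀ n, L ⟶ Y n) (N : ℤ → ℕ)
    (hN : ∀ i n, N i ≤ n → (f n).f i = 0) : ∃ n, φ ≫ Q.map (f n) = 0 := by
  letI : DecidableEq (ULift.{v} ℕ) := Classical.decEq _
  let Y' : ULift.{v} ℕ → CochainComplex A ℤ := fun n => Y n.down
  have := HoCat.derivedCategory_hasColimitsOfShape (C := A) (J := ULift.{v} ℕ)
  let g := locFinLift Y' (fun n => f n.down) (fun i => (Finset.range (N i)).image ULift.up)
    (fun i n hn => hN i n.down (by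
      by_contra h
      exact hn (Finset.mem_image.2 ⟨n.down, Finset.mem_range.2 (by omega), rfl⟩)))
  let e := PreservesCoproduct.iso (Q (C := A)) Y'
  obtain ⟨s, hs⟩ := exists_finset_π _ (hK _ fun n => Q.obj (Y' n)) (φ ≫ Q.map g ≫ e.hom)
  obtain ⟨n, hn⟩ := Infinite.exists_notMem_finset s
  refine ⟨n.down, ?_⟩
  have he : ∀ n, e.hom ≫ Sigma.π (fun n => Q.obj (Y' n)) n = Q.map (Sigma.π Y' n) := fun n => by
    rw [← cancel_epi e.inv, e.inv_hom_id_assoc]
    refine Sigma.hom_ext _ _ fun m => ?_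
    rw [PreservesCoproduct.inv_hom, ι_comp_sigmaComparison_assoc, ← Q.map_comp]
    by_cases h : m = n
    · subst h
      rw [Sigma.ι_π_eq_id, Sigma.ι_π_eq_id, Q.map_id]
    · rw [Sigma.ι_π_of_ne _ h, Sigma.ι_π_of_ne _ h, Q.map_zero]
  refine Eq.trans ?_ (hs n hn)
  rw [Category.assoc, Category.assoc]
  refine congrArg (φ ≫ ·) ?_
  exact (congrArg Q.map (locFinLift_π Y' _ _ _ n).symm).trans ((Q.map_comp g _).trans (congrArg (Q.map g ≫ ·) (he n).symm))

theorem IsSmallCompact.exists_bound (hK : IsSmallCompact K) :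
    ∃ b : ℤ, ∀ i, b < i → IsZero ((homologyFunctor A i).obj K) := by
  let F := Q.objPreimage K
  let e : Q.obj F ≅ K := Q.objObjPreimageIso K
  obtain ⟨n, hn⟩ := hK.exists_component_eq_zero e.inv (fun n : ℕ => F.truncGE (n : ℤ))
    (fun n : ℕ => F.πTruncGE (n : ℤ)) (fun i => (i + 1).toNat)
    (fun i n h => (CochainComplex.isZero_of_isStrictlyGE (F.truncGE (n : ℤ)) (n : ℤ) i (by omega)).eq_of_tgt _ _)
  refine ⟨(n : ℤ), fun i hi => ?_⟩
  have h : (homologyFunctor A i).map (Q.map (F.πTruncGE (n : ℤ))) = 0 := by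
    rw [← cancel_epi ((homologyFunctor A i).map e.inv), ← Functor.map_comp, hn, Functor.map_zero, comp_zero]
  have hi' : IsIso ((homologyFunctor A i).map (Q.map (F.πTruncGE (n : ℤ)))) :=
    (NatIso.isIso_map_iff (homologyFunctorFactors A i) _).2
      ((quasiIsoAt_iff_isIso_homologyMap _ _).1 (F.quasiIsoAt_πTruncGE (n : ℤ) i (by omega)))
  refine IsZero.of_iso ?_ ((homologyFunctor A i).mapIso e.symm)
  rw [IsZero.iff_id_eq_zero]
  rw [← cancel_mono ((homologyFunctor A i).map (Q.map (F.πTruncGE (n : ℤ)))), Category.id_comp, h, zero_comp]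

theorem exists_retract_bounded (hK : IsSmallCompact K) (S : Set A)
    (h1 : ∀ X : A, ∃ (ι : Type v) (E : ι → A) (π : ∐ E ⟶ X), (∀ i, E i ∈ S) ∧ Epi π) :
    ∃ (L : CochainComplex A ℤ) (a b : ℤ), (∀ i, i < a ∨ b < i → IsZero (L.X i)) ∧
      (∀ i, SumsOf S (L.X i)) ∧ Nonempty (Retract K (Q.obj L)) := by
  obtain ⟨b, hb⟩ := hK.exists_bound
  let F := Q.objPreimage K
  obtain ⟨L, s, hL, hs, hz⟩ := exists_quot_resolution (SumsOf S) (sumsOf_prod S)
    (fun X => by obtain ⟨ι, E, π, hE, hπ⟩ := h1 X; exact ⟨∐ E, π, ⟨ι, E, hE, ⟨Iso.refl _⟩⟩, hπ⟩) F b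
    (fun i hi => (hb i hi).of_iso ((homologyFunctor A i).mapIso (Q.objObjPreimageIso K)))
  let e : Q.obj L ≅ K := asIso (Q.map s) ≪≫ Q.objObjPreimageIso K
  obtain ⟨n, hn⟩ := hK.exists_component_eq_zero e.inv (fun n : ℕ => sLE L (-(n : ℤ)))
    (fun n : ℕ => sLEπ L (-(n : ℤ))) (fun i => (-i + 1).toNat)
    (fun i n h => sLEπ_f_eq_zero L (by omega))
  have hn' : e.inv ≫ Q.map (sLEπ L (-(n : ℤ) + 1 - 1)) = 0 := by
    rw [add_sub_cancel_right]; exact hn
  obtain ⟨ψ, hψ⟩ := Triangle.coyoneda_exact₂ _ (triangleOfSES_distinguished (stupidSeq_shortExact L (-(n : ℤ) + 1)))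
    e.inv hn'
  refine ⟨sGE L (-(n : ℤ) + 1), -(n : ℤ) + 1, b, fun i hi => ?_, fun i => ?_,
    ⟨{ i := ψ, r := Q.map (sGEι L _) ≫ e.hom, retract := ?_ }⟩⟩
  · rcases lt_or_ge i (-(n : ℤ) + 1) with h | h
    · exact isZero_sGE L h
    · exact (hz i (hi.resolve_left (by omega))).of_iso (sGEXIso L h)
  · rcases lt_or_ge i (-(n : ℤ) + 1) with h | h
    · exact sumsOf_of_isZero S (isZero_sGE L h)
    · exact (SumsOf S).prop_of_iso (sGEXIso L h).symm (hL i)
  · rw [← Category.assoc]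
    exact (congrArg (· ≫ e.hom) hψ.symm).trans e.inv_hom_id

section Shrink

variable {ι : Type v} (E : ι → A) (J : Finset ι)

/-- The projection away from the summands in `J`. -/
noncomputable def projOut : (∐ E) ⟶ ∐ fun j : {j // j ∉ J} => E j.1 :=
  Sigma.desc fun j => if h : j ∈ J then 0 else Sigma.ι (fun j : {j // j ∉ J} => E j.1) ⟨j, h⟩

theorem ι_projOut_of_mem {j : ι} (h : j ∈ J) : Sigma.ι E j ≫ projOut E J = 0 := by
  rw [projOut, Sigma.ι_desc, dif_pos h]

/-- The inclusion of the summands in `J`. -/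
noncomputable abbrev inclIn : (∐ fun j : {j // j ∈ J} => E j.1) ⟶ ∐ E :=
  Sigma.desc fun j => Sigma.ι E j.1

/-- The summands in `J` and the others split `∐ E`. -/
noncomputable def sumSplitting :
    (ShortComplex.mk (inclIn E J) (projOut E J) (Sigma.hom_ext _ _ fun j => by
      rw [inclIn, Sigma.ι_desc_assoc, ι_projOut_of_mem E J j.2, comp_zero])).Splitting where
  r := Sigma.desc fun j => if h : j ∈ J then Sigma.ι (fun j : {j // j ∈ J} => E j.1) ⟨j, h⟩ else 0
  s := Sigma.desc fun j => Sigma.ι E j.1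
  f_r := Sigma.hom_ext _ _ fun j => by
    dsimp only
    rw [Sigma.ι_desc_assoc, Sigma.ι_desc, dif_pos j.2, Category.comp_id]
  s_g := Sigma.hom_ext _ _ fun j => by
    dsimp only
    rw [projOut, Sigma.ι_desc_assoc, Sigma.ι_desc, dif_neg j.2, Category.comp_id]
  id := Sigma.hom_ext _ _ fun j => by
    dsimp only
    simp only [Preadditive.comp_add, Category.comp_id, projOut, inclIn, Sigma.ι_desc_assoc]
    by_cases h : j ∈ J
    · rw [dif_pos h, dif_pos h, Sigma.ι_desc, zero_comp, add_zero]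
    · rw [dif_neg h, dif_neg h, Sigma.ι_desc, zero_comp, zero_add]

theorem finSumsOf_finite {S : Set A} (hE : ∀ j, E j ∈ S) :
    FinSumsOf S (∐ fun j : {j // j ∈ J} => E j.1) :=
  ⟨J.card, fun k => E (J.equivFin.symm k).1, fun k => hE _,
    ⟨(Sigma.whiskerEquiv J.equivFin.symm (fun k => Iso.refl _)).symm ≪≫
      (biproduct.isoCoproduct _).symm⟩⟩

theorem preservesColimit_single (i : ℤ) :
    PreservesColimitsOfShape (Discrete ι) (singleFunctor A i) := by
  have : PreservesColimitsOfShape (Discrete ι) (HomologicalComplex.single A (ComplexShape.up ℤ) i) := by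
    refine HomologicalComplex.preservesColimitsOfShape_of_eval _ fun n => ?_
    by_cases h : n = i
    · subst h
      exact preservesColimitsOfShape_of_natIso
        (NatIso.ofComponents (fun X => (HomologicalComplex.singleObjXSelf (ComplexShape.up ℤ) n X).symm)
          (fun f => by simp [HomologicalComplex.single_map_f_self]; erw [Iso.inv_hom_id_assoc]; rfl) :
          𝟭 A ≅ HomologicalComplex.single A (ComplexShape.up ℤ) n ⋙ HomologicalComplex.eval A _ n)
    · refine ⟨fun {G} => ⟨fun {c} _ => ⟨?_⟩⟩⟩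
      exact
        { desc := fun s => 0
          fac := fun s j => (HomologicalComplex.isZero_single_obj_X (ComplexShape.up ℤ) i _ n h).eq_of_src _ _
          uniq := fun s m _ => (HomologicalComplex.isZero_single_obj_X (ComplexShape.up ℤ) i _ n h).eq_of_src _ _ }
  have : PreservesColimitsOfShape (Discrete ι) (CochainComplex.singleFunctor A i) := this
  exact preservesColimitsOfShape_of_natIso (singleFunctorIsoCompQ A i).symm

end Shrink

theorem exists_shrink (hK : IsSmallCompact K) {S : Set A}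
    (h2 : ∀ E ∈ S, ∀ ι : Type v, PreservesColimitsOfShape (Discrete ι) (preadditiveCoyoneda.obj (op E)))
    {L : CochainComplex A ℤ} (φ : K ⟶ Q.obj L) (i : ℤ)
    (hprev : FinSumsOf S (L.X (i - 1))) (hcur : SumsOf S (L.X i)) :
    ∃ (L₁ : CochainComplex A ℤ) (k : L₁ ⟶ L) (φ₁ : K ⟶ Q.obj L₁), φ₁ ≫ Q.map k = φ ∧
      FinSumsOf S (L₁.X i) ∧ ∀ m, m ≠ i → Nonempty (L₁.X m ≅ L.X m) := by
  obtain ⟨n, E', hE', ⟨e'⟩⟩ := hprev
  obtain ⟨ι, E, hE, ⟨e⟩⟩ := hcur
  -- summands met by the differential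
  have h0 : ∀ k, ∃ (s : Finset ι) (y : ∀ j, E' k ⟶ E j),
      biproduct.ι E' k ≫ e'.inv ≫ L.d (i - 1) i ≫ e.hom = ∑ j ∈ s, y j ≫ Sigma.ι E j := fun k =>
    have := h2 _ (hE' k) ι
    exists_sum_of_coyoneda E _
  choose s y hy using h0
  let J₀ : Finset ι := Finset.univ.biUnion s
  have hd : ∀ J, J₀ ⊆ J → L.d (i - 1) i ≫ e.hom ≫ projOut E J = 0 := fun J hJ => by
    rw [← cancel_epi e'.inv, comp_zero]
    refine biproduct.hom_ext' _ _ fun k => ?_
    rw [comp_zero, ← Category.assoc (L.d _ _), ← Category.assoc e'.inv, ← Category.assoc, hy,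
      Preadditive.sum_comp]
    exact Finset.sum_eq_zero fun j hj => by
      rw [Category.assoc, ι_projOut_of_mem E J (hJ (Finset.mem_biUnion.2 ⟨k, Finset.mem_univ k, hj⟩)), comp_zero]
  let R : Finset ι → A := fun J => ∐ fun j : {j // j ∉ J} => E j.1
  let f : ∀ J, J₀ ⊆ J → (L ⟶ (HomologicalComplex.single A (ComplexShape.up ℤ) i).obj (R J)) := fun J hJ =>
    HomologicalComplex.mkHomToSingle (e.hom ≫ projOut E J) fun p hp => by
      obtain rfl : p = i - 1 := by simp at hp; omega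
      exact hd J hJ
  -- summands met by the object
  let E₀ : {j // j ∉ J₀} → A := fun j => E j.1
  have := preservesColimit_single (A := A) (ι := {j // j ∉ J₀}) i
  have := HoCat.derivedCategory_hasColimitsOfShape (C := A) (J := {j // j ∉ J₀})
  let c := PreservesCoproduct.iso (singleFunctor A i) E₀
  let e₀ := ((singleFunctorIsoCompQ A i).app (R J₀)).symm
  obtain ⟨t, x, hx⟩ := exists_finset_of_finHom _ (hK _ fun j => (singleFunctor A i).obj (E₀ j))
    (φ ≫ Q.map (f J₀ le_rfl) ≫ e₀.hom ≫ c.hom)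
  let J : Finset ι := J₀ ∪ t.image Subtype.val
  have hJ : J₀ ⊆ J := Finset.subset_union_left
  let q : R J₀ ⟶ R J := Sigma.desc fun j =>
    if h : j.1 ∈ J then 0 else Sigma.ι (fun j : {j // j ∉ J} => E j.1) ⟨j.1, h⟩
  have hq : projOut E J₀ ≫ q = projOut E J := Sigma.hom_ext _ _ fun j => by
    rw [projOut, projOut, Sigma.ι_desc_assoc, Sigma.ι_desc]
    by_cases h : j ∈ J₀
    · rw [dif_pos h, dif_pos (hJ h), zero_comp]
    · rw [dif_neg h, Sigma.ι_desc]
  have hf : f J hJ = f J₀ le_rfl ≫ (HomologicalComplex.single A (ComplexShape.up ℤ) i).map q := by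
    ext
    simp [f, HomologicalComplex.single_map_f_self]
    rw [← Category.assoc (projOut E J₀), hq]
  have hzero : φ ≫ Q.map (f J hJ) = 0 := by
    have h3 : φ ≫ Q.map (f J₀ le_rfl) ≫ e₀.hom ≫ (singleFunctor A i).map q = 0 := by
      have h4 : φ ≫ Q.map (f J₀ le_rfl) ≫ e₀.hom = (∑ j ∈ t, x j ≫ Sigma.ι (fun j => (singleFunctor A i).obj (E₀ j)) j) ≫ c.inv := by
        rw [← hx]; simp
      rw [← Category.assoc (Q.map _), ← Category.assoc φ, h4, Category.assoc, Preadditive.sum_comp]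
      refine Finset.sum_eq_zero fun j hj => ?_
      rw [Category.assoc, PreservesCoproduct.inv_hom, ι_comp_sigmaComparison_assoc, ← Functor.map_comp,
        Sigma.ι_desc, dif_pos (show j.1 ∈ J from Finset.mem_union_right _ (Finset.mem_image_of_mem _ hj)),
        Functor.map_zero, comp_zero]
    rw [hf, Q.map_comp]
    refine ((singleFunctorIsoCompQ A i).app (R J)).symm.cancel_iso_hom_right _ 0 |>.1 ?_
    refine Eq.trans ?_ (h3.trans zero_comp.symm)
    refine (Category.assoc _ _ _).trans (congrArg (φ ≫ ·) ((Category.assoc _ _ _).trans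
      (congrArg (Q.map (f J₀ le_rfl) ≫ ·) ?_)))
    exact (singleFunctorIsoCompQ A i).inv.naturality q
  let g := f J hJ
  have : Epi g := by
    refine @HomologicalComplex.epi_of_epi_f _ _ _ _ _ _ _ g fun m => ?_
    by_cases h : m = i
    · subst h
      have : Epi (projOut E J) := (sumSplitting E J).epi_g
      simp only [g, f, HomologicalComplex.mkHomToSingle_f]
      infer_instance
    · exact ⟨fun a b _ => (HomologicalComplex.isZero_single_obj_X _ _ _ _ h).eq_of_src _ _⟩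
  have hS : (ShortComplex.mk (kernel.ι g) g (kernel.condition g)).ShortExact :=
    { exact := ShortComplex.exact_of_f_is_kernel _ (kernelIsKernel g) }
  obtain ⟨φ₁, hφ₁⟩ := Triangle.coyoneda_exact₂ _ (triangleOfSES_distinguished hS) φ hzero
  let ev : ∀ m, (kernel g).X m ≅ kernel (g.f m) := fun m =>
    PreservesKernel.iso (HomologicalComplex.eval A (ComplexShape.up ℤ) m) g
  refine ⟨kernel g, kernel.ι g, φ₁, hφ₁.symm, ?_, fun m hm => ⟨ev m ≪≫
    kernelIsoOfEq ((HomologicalComplex.isZero_single_obj_X _ _ _ _ hm).eq_of_tgt (g.f m) 0) ≪≫ kernelZeroIsoSource⟩⟩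
  refine finSumsOf_of_iso S ?_ (finSumsOf_finite E J hE)
  have hg : g.f i = e.hom ≫ projOut E J ≫ (HomologicalComplex.singleObjXSelf (ComplexShape.up ℤ) i (R J)).inv := by
    simp [g, f]
  exact ((sumSplitting E J).shortExact.fIsKernel.conePointUniqueUpToIso (kernelIsKernel _)) ≪≫
    (kernelCompMono (projOut E J) (HomologicalComplex.singleObjXSelf (ComplexShape.up ℤ) i (R J)).inv).symm ≪≫
    (kernelIsIsoComp e.hom _).symm ≪≫ (kernelIsoOfEq hg).symm ≪≫ (ev i).symm

/-- A compact object of the derived category is a retract of a bounded complex of finite sums of generators. -/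
theorem exists_retract_finSums (hK : IsSmallCompact K) (S : Set A)
    (h1 : ∀ X : A, ∃ (ι : Type v) (E : ι → A) (π : ∐ E ⟶ X), (∀ i, E i ∈ S) ∧ Epi π)
    (h2 : ∀ E ∈ S, ∀ ι : Type v, PreservesColimitsOfShape (Discrete ι) (preadditiveCoyoneda.obj (op E))) :
    ∃ (L : CochainComplex A ℤ) (a b : ℤ), (∀ i, i < a ∨ b < i → IsZero (L.X i)) ∧
      (∀ i, FinSumsOf S (L.X i)) ∧ Nonempty (Retract K (Q.obj L)) := by
  obtain ⟨L, a, b, hz, hS, ⟨r⟩⟩ := exists_retract_bounded hK S h1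
  have key : ∀ m : ℕ, m ≤ (b + 1 - a).toNat → ∃ (L : CochainComplex A ℤ), (∀ i, i < a ∨ b < i → IsZero (L.X i)) ∧
      (∀ i, i < a + m → FinSumsOf S (L.X i)) ∧ (∀ i, a + m ≤ i → SumsOf S (L.X i)) ∧
      Nonempty (Retract K (Q.obj L)) := by
    intro m
    induction m with
    | zero => intro _; exact ⟨L, hz, fun i hi => finSumsOf_of_isZero S (hz i (Or.inl (by omega))), fun i _ => hS i, ⟨r⟩⟩
    | succ m ih =>
      intro hm
      obtain ⟨L, hz, hfin, hsum, ⟨r⟩⟩ := ih (by omega)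
      obtain ⟨L₁, k, φ₁, hφ₁, hcur, hiso⟩ :=
        exists_shrink hK h2 r.i (a + m) (hfin _ (by omega)) (hsum _ le_rfl)
      refine ⟨L₁, fun i hi => ?_, fun i hi => ?_, fun i hi => ?_,
        ⟨{ i := φ₁, r := Q.map k ≫ r.r, retract := by rw [← Category.assoc, hφ₁, r.retract] }⟩⟩
      · exact (hz i hi).of_iso (hiso i (by omega)).some
      · by_cases h : i = a + m
        · subst h; exact hcur
        · exact finSumsOf_of_iso S (hiso i h).some.symm (hfin i (by omega))
      · exact (SumsOf S).prop_of_iso (hiso i (by omega)).some.symm (hsum i (by omega))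
  obtain ⟨L', hz', hfin, -, hr⟩ := key (b + 1 - a).toNat le_rfl
  refine ⟨L', a, b, hz', fun i => ?_, hr⟩
  rcases lt_or_ge b i with h | h
  · exact finSumsOf_of_isZero S (hz' i (Or.inr h))
  · exact hfin i (by omega)

end GrothLib.DerCat
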