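import Groth.Agent.Lib.DerCat.CompactBounded

/-! # Maps from compact objects into images of bounded above complexes factor through bounded finite ones -/

set_option autoImplicit false
set_option maxHeartbeats 800000

universe w v u w' u'

open CategoryTheory CategoryTheory.Limits DerivedCategory Pretriangulated Opposite

attribute [local instance] CategoryTheory.Abelian.hasFiniteBiproducts

namespace GrothLib.DerCat

attribute [local instance] Classical.decEq

variable {A : Type u} [Category.{v} A] [Abelian A] [IsGrothendieckAbelian.{v} A] [HasCoproducts.{v} A]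
  [HasDerivedCategory.{w} A] {D : Type u'} [Category.{w'} D] [Preadditive D] [HasZeroObject D] [HasShift D ℤ]
  [∀ n : ℤ, (shiftFunctor D n).Additive] [Pretriangulated D] (G : DerivedCategory A ⥤ D) [G.CommShift ℤ]
  [G.IsTriangulated] [∀ J : Type v, PreservesColimitsOfShape (Discrete J) G] [∀ J : Type v, HasColimitsOfShape (Discrete J) D]

/-- Maps from `K` into sums of images under `G` are finite sums. -/
def SumCompactRel (K : D) : Prop :=
  ∀ (ι : Type v) (X : ι → DerivedCategory A), TriCat.FinHom (fun i => G.obj (X i)) K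

variable {G} {K : D}

theorem exists_component_eq_zero_rel (hK : SumCompactRel G K) {L : CochainComplex A ℤ}
    (φ : K ⟶ G.obj (Q.obj L)) (Y : ℕ → CochainComplex A ℤ) (f : ∀ n, L ⟶ Y n) (N : ℤ → ℕ)
    (hN : ∀ i n, N i ≤ n → (f n).f i = 0) : ∃ n, φ ≫ G.map (Q.map (f n)) = 0 := by
  letI : DecidableEq (ULift.{v} ℕ) := Classical.decEq _
  let Y' : ULift.{v} ℕ → CochainComplex A ℤ := fun n => Y n.down
  have := HoCat.derivedCategory_hasColimitsOfShape (C := A) (J := ULift.{v} ℕ)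
  let g := locFinLift Y' (fun n => f n.down) (fun i => (Finset.range (N i)).image ULift.up)
    (fun i n hn => hN i n.down (by
      by_contra h
      exact hn (Finset.mem_image.2 ⟨n.down, Finset.mem_range.2 (by omega), rfl⟩)))
  let e := PreservesCoproduct.iso (Q (C := A) ⋙ G) Y'
  obtain ⟨s, hs⟩ := exists_finset_π _ (hK _ fun n => Q.obj (Y' n)) (φ ≫ (Q ⋙ G).map g ≫ e.hom)
  obtain ⟨n, hn⟩ := Infinite.exists_notMem_finset s
  refine ⟨n.down, ?_⟩
  have he : ∀ n, e.hom ≫ Sigma.π (fun n => (Q ⋙ G).obj (Y' n)) n = (Q ⋙ G).map (Sigma.π Y' n) := fun n => by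
    rw [← cancel_epi e.inv, e.inv_hom_id_assoc]
    refine Sigma.hom_ext _ _ fun m => ?_
    rw [PreservesCoproduct.inv_hom, ι_comp_sigmaComparison_assoc, ← (Q ⋙ G).map_comp]
    by_cases h : m = n
    · subst h
      rw [Sigma.ι_π_eq_id, Sigma.ι_π_eq_id, (Q ⋙ G).map_id]
    · rw [Sigma.ι_π_of_ne _ h, Sigma.ι_π_of_ne _ h, (Q ⋙ G).map_zero]
  refine Eq.trans ?_ (hs n hn)
  rw [Category.assoc, Category.assoc]
  refine congrArg (φ ≫ ·) ?_
  exact (congrArg (Q ⋙ G).map (locFinLift_π Y' _ _ _ n).symm).trans (((Q ⋙ G).map_comp g _).trans (congrArg ((Q ⋙ G).map g ≫ ·) (he n).symm))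

theorem exists_shrink_rel (hK : SumCompactRel G K) {S : Set A}
    (h2 : ∀ E ∈ S, ∀ ι : Type v, PreservesColimitsOfShape (Discrete ι) (preadditiveCoyoneda.obj (op E)))
    {L : CochainComplex A ℤ} (φ : K ⟶ G.obj (Q.obj L)) (i : ℤ)
    (hprev : FinSumsOf S (L.X (i - 1))) (hcur : SumsOf S (L.X i)) :
    ∃ (L₁ : CochainComplex A ℤ) (k : L₁ ⟶ L) (φ₁ : K ⟶ G.obj (Q.obj L₁)), φ₁ ≫ G.map (Q.map k) = φ ∧
      FinSumsOf S (L₁.X i) ∧ ∀ m, m ≠ i → Nonempty (L₁.X m ≅ L.X m) := by
  obtain ⟨n, E', hE', ⟨e'⟩⟩ := hprev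
  obtain ⟨ι, E, hE, ⟨e⟩⟩ := hcur
  -- summands met by the differential
  have h0 : ∀ k, ∃ (s : Finset ι) (y : ∀ j, E' k ⟶ E j),
      biproduct.ι E' k ≫ e'.inv ≫ L.d (i - 1) i ≫ e.hom = ∑ j ∈ s, y j ≫ Sigma.ι E j := fun k =>
    have := h2 _ (hE' k) ι
    exists_sum_of_coyoneda E _
  choose s y hy using h0
  let J₀ : Finset ι := Finset.univ.biUnion s
  have hd : ∀ J, J₀ ⊆ J → L.d (i - 1) i ≫ e.hom ≫ projOut E J = 0 := fun J hJ => by
    rw [← cancel_epi e'.inv, comp_zero]
    refine biproduct.hom_ext' _ _ fun k => ?_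
    rw [comp_zero, ← Category.assoc (L.d _ _), ← Category.assoc e'.inv, ← Category.assoc, hy,
      Preadditive.sum_comp]
    exact Finset.sum_eq_zero fun j hj => by
      rw [Category.assoc, ι_projOut_of_mem E J (hJ (Finset.mem_biUnion.2 ⟨k, Finset.mem_univ k, hj⟩)), comp_zero]
  let R : Finset ι → A := fun J => ∐ fun j : {j // j ∉ J} => E j.1
  let f : ∀ J, J₀ ⊆ J → (L ⟶ (HomologicalComplex.single A (ComplexShape.up ℤ) i).obj (R J)) := fun J hJ =>
    HomologicalComplex.mkHomToSingle (e.hom ≫ projOut E J) fun p hp => by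
      obtain rfl : p = i - 1 := by simp at hp; omega
      exact hd J hJ
  -- summands met by the object
  let E₀ : {j // j ∉ J₀} → A := fun j => E j.1
  have := preservesColimit_single (A := A) (ι := {j // j ∉ J₀}) i
  have := HoCat.derivedCategory_hasColimitsOfShape (C := A) (J := {j // j ∉ J₀})
  let c := PreservesCoproduct.iso (singleFunctor A i ⋙ G) E₀
  let e₀ := ((singleFunctorIsoCompQ A i).app (R J₀)).symm
  obtain ⟨t, x, hx⟩ := exists_finset_of_finHom _ (hK _ fun j => (singleFunctor A i).obj (E₀ j))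
    (φ ≫ G.map (Q.map (f J₀ le_rfl) ≫ e₀.hom) ≫ c.hom)
  let J : Finset ι := J₀ ∪ t.image Subtype.val
  have hJ : J₀ ⊆ J := Finset.subset_union_left
  let q : R J₀ ⟶ R J := Sigma.desc fun j =>
    if h : j.1 ∈ J then 0 else Sigma.ι (fun j : {j // j ∉ J} => E j.1) ⟨j.1, h⟩
  have hq : projOut E J₀ ≫ q = projOut E J := Sigma.hom_ext _ _ fun j => by
    rw [projOut, projOut, Sigma.ι_desc_assoc, Sigma.ι_desc]
    by_cases h : j ∈ J₀
    · rw [dif_pos h, dif_pos (hJ h), zero_comp]
    · rw [dif_neg h, Sigma.ι_desc]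
  have hf : f J hJ = f J₀ le_rfl ≫ (HomologicalComplex.single A (ComplexShape.up ℤ) i).map q := by
    ext
    simp [f, HomologicalComplex.single_map_f_self]
    rw [← Category.assoc (projOut E J₀), hq]
  have hzero : φ ≫ G.map (Q.map (f J hJ)) = 0 := by
    have h3 : φ ≫ G.map (Q.map (f J₀ le_rfl) ≫ e₀.hom) ≫ (singleFunctor A i ⋙ G).map q = 0 := by
      have h4 : φ ≫ G.map (Q.map (f J₀ le_rfl) ≫ e₀.hom) =
          (∑ j ∈ t, x j ≫ Sigma.ι (fun j => G.obj ((singleFunctor A i).obj (E₀ j))) j) ≫ c.inv := by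
        rw [← hx, Category.assoc, Category.assoc]
        exact congrArg (φ ≫ ·) ((congrArg (G.map _ ≫ ·) c.hom_inv_id).trans (Category.comp_id _)).symm
      rw [← Category.assoc φ, h4, Category.assoc, Preadditive.sum_comp]
      refine Finset.sum_eq_zero fun j hj => ?_
      rw [Category.assoc, PreservesCoproduct.inv_hom]
      refine (congrArg (x j ≫ ·) (ι_comp_sigmaComparison_assoc (singleFunctor A i ⋙ G) E₀ j _)).trans ?_
      rw [← Functor.map_comp, Sigma.ι_desc,
        dif_pos (show j.1 ∈ J from Finset.mem_union_right _ (Finset.mem_image_of_mem _ hj)),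
        Functor.map_zero, comp_zero]
    have hnat : Q.map (f J hJ) =
        Q.map (f J₀ le_rfl) ≫ e₀.hom ≫ (singleFunctor A i).map q ≫ (singleFunctorIsoCompQ A i).hom.app (R J) := by
      rw [hf, Q.map_comp]
      refine congrArg (Q.map (f J₀ le_rfl) ≫ ·) ?_
      refine Eq.symm ((congrArg (e₀.hom ≫ ·) ((singleFunctorIsoCompQ A i).hom.naturality q)).trans ?_)
      exact ((singleFunctorIsoCompQ A i).app (R J₀)).inv_hom_id_assoc _
    have key : ∀ {U V W Z : DerivedCategory A} {K' : D} (φ : K' ⟶ G.obj U) (p : U ⟶ V) {V' : DerivedCategory A}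
        (q : V ⟶ V') (r : V' ⟶ W) (t : W ⟶ Z),
        φ ≫ G.map (p ≫ q ≫ r ≫ t) = (φ ≫ G.map (p ≫ q) ≫ G.map r) ≫ G.map t := fun _ _ _ _ _ => by simp
    refine (congrArg (fun z => φ ≫ G.map z) hnat).trans ?_
    exact (key φ _ _ _ _).trans ((congrArg (· ≫ _) h3).trans zero_comp)
  let g := f J hJ
  have : Epi g := by
    refine @HomologicalComplex.epi_of_epi_f _ _ _ _ _ _ _ g fun m => ?_
    by_cases h : m = i
    · subst h
      have : Epi (projOut E J) := (sumSplitting E J).epi_g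
      simp only [g, f, HomologicalComplex.mkHomToSingle_f]
      infer_instance
    · exact ⟨fun a b _ => (HomologicalComplex.isZero_single_obj_X _ _ _ _ h).eq_of_src _ _⟩
  have hS : (ShortComplex.mk (kernel.ι g) g (kernel.condition g)).ShortExact :=
    { exact := ShortComplex.exact_of_f_is_kernel _ (kernelIsKernel g) }
  obtain ⟨φ₁, hφ₁⟩ := Triangle.coyoneda_exact₂ _ (G.map_distinguished _ (triangleOfSES_distinguished hS)) φ hzero
  let ev : ∀ m, (kernel g).X m ≅ kernel (g.f m) := fun m =>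
    PreservesKernel.iso (HomologicalComplex.eval A (ComplexShape.up ℤ) m) g
  refine ⟨kernel g, kernel.ι g, φ₁, hφ₁.symm, ?_, fun m hm => ⟨ev m ≪≫
    kernelIsoOfEq ((HomologicalComplex.isZero_single_obj_X _ _ _ _ hm).eq_of_tgt (g.f m) 0) ≪≫ kernelZeroIsoSource⟩⟩
  refine finSumsOf_of_iso S ?_ (finSumsOf_finite E J hE)
  have hg : g.f i = e.hom ≫ projOut E J ≫ (HomologicalComplex.singleObjXSelf (ComplexShape.up ℤ) i (R J)).inv := by
    simp [g, f]
  exact ((sumSplitting E J).shortExact.fIsKernel.conePointUniqueUpToIso (kernelIsKernel _)) ≪≫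
    (kernelCompMono (projOut E J) (HomologicalComplex.singleObjXSelf (ComplexShape.up ℤ) i (R J)).inv).symm ≪≫
    (kernelIsIsoComp e.hom _).symm ≪≫ (kernelIsoOfEq hg).symm ≪≫ (ev i).symm

/-- A map from a relatively compact object into the image of a bounded above complex of sums factors
through the image of a bounded complex of finite sums. -/
theorem exists_factor_finSums (hK : SumCompactRel G K) {S : Set A}
    (h2 : ∀ E ∈ S, ∀ ι : Type v, PreservesColimitsOfShape (Discrete ι) (preadditiveCoyoneda.obj (op E)))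
    {L : CochainComplex A ℤ} (b : ℤ) (hb : ∀ i, b < i → IsZero (L.X i)) (hL : ∀ i, SumsOf S (L.X i))
    (φ : K ⟶ G.obj (Q.obj L)) :
    ∃ (L' : CochainComplex A ℤ) (a : ℤ) (k : L' ⟶ L) (φ' : K ⟶ G.obj (Q.obj L')),
      φ' ≫ G.map (Q.map k) = φ ∧ (∀ i, i < a ∨ b < i → IsZero (L'.X i)) ∧ ∀ i, FinSumsOf S (L'.X i) := by
  obtain ⟨n, hn⟩ := exists_component_eq_zero_rel hK φ (fun n : ℕ => sLE L (-(n : ℤ)))
    (fun n : ℕ => sLEπ L (-(n : ℤ))) (fun i => (-i + 1).toNat) (fun i n h => sLEπ_f_eq_zero L (by omega))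
  let a : ℤ := -(n : ℤ) + 1
  have hn' : φ ≫ G.map (Q.map (sLEπ L (a - 1))) = 0 := by
    rw [show a - 1 = -(n : ℤ) by omega]; exact hn
  obtain ⟨φ₀, hφ₀⟩ := Triangle.coyoneda_exact₂ _
    (G.map_distinguished _ (triangleOfSES_distinguished (stupidSeq_shortExact L a))) φ hn'
  have hz : ∀ i, i < a ∨ b < i → IsZero ((sGE L a).X i) := fun i hi => by
    rcases lt_or_ge i a with h | h
    · exact isZero_sGE L h
    · exact (hb i (hi.resolve_left (by omega))).of_iso (sGEXIso L h)
  have key : ∀ m : ℕ, m ≤ (b + 1 - a).toNat → ∃ (L' : CochainComplex A ℤ) (k : L' ⟶ L) (φ' : K ⟶ G.obj (Q.obj L')),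
      φ' ≫ G.map (Q.map k) = φ ∧ (∀ i, i < a ∨ b < i → IsZero (L'.X i)) ∧
      (∀ i, i < a + m → FinSumsOf S (L'.X i)) ∧ (∀ i, a + m ≤ i → SumsOf S (L'.X i)) := by
    intro m
    induction m with
    | zero =>
      intro _
      refine ⟨sGE L a, sGEι L a, φ₀, hφ₀.symm, hz, fun i hi => finSumsOf_of_isZero S (hz i (Or.inl (by omega))),
        fun i hi => ?_⟩
      exact (SumsOf S).prop_of_iso (sGEXIso L (by omega : a ≤ i)).symm (hL i)
    | succ m ih =>
      intro hm
      obtain ⟨L', k, φ', hφ', hz, hfin, hsum⟩ := ih (by omega)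
      obtain ⟨L₁, k₁, φ₁, hφ₁, hcur, hiso⟩ :=
        exists_shrink_rel hK h2 φ' (a + m) (hfin _ (by omega)) (hsum _ le_rfl)
      refine ⟨L₁, k₁ ≫ k, φ₁, ?_, fun i hi => (hz i hi).of_iso (hiso i (by omega)).some, fun i hi => ?_,
        fun i hi => (SumsOf S).prop_of_iso (hiso i (by omega)).some.symm (hsum i (by omega))⟩
      · rw [Q.map_comp, G.map_comp, ← Category.assoc, hφ₁, hφ']
      · by_cases h : i = a + m
        · subst h; exact hcur
        · exact finSumsOf_of_iso S (hiso i h).some.symm (hfin i (by omega))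
  obtain ⟨L', k, φ', hφ', hz', hfin, -⟩ := key (b + 1 - a).toNat le_rfl
  refine ⟨L', a, k, φ', hφ', hz', fun i => ?_⟩
  rcases lt_or_ge b i with h | h
  · exact finSumsOf_of_isZero S (hz' i (Or.inr h))
  · exact hfin i (by omega)

end GrothLib.DerCat
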