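import Groth.Agent.Lib.DerCat.PartialRes
import Groth.Agent.Lib.DerCat.RDMiddle
import Groth.Prelude.Def_WeakSerre
import Mathlib.Algebra.Homology.HomologySequence
import Mathlib.Algebra.Homology.HomologicalComplexAbelian
import Mathlib.CategoryTheory.Adjunction.FullyFaithful
import Mathlib.CategoryTheory.Adjunction.Additive

/-!
# The inductive step comparing two topologies, abstractly

`a ⊣ ε` is a localisation of abelian categories (think `ε` = a finer-topology sheaf regarded for the
coarser topology), `P` a weak Serre class of objects on which the unit is invertible.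
-/

universe v v' u u'

open CategoryTheory CategoryTheory.Limits

set_option backward.isDefEq.respectTransparency false

namespace GrothLib.HomGamma

variable {T : Type u} [Category.{v} T] [Abelian T] [EnoughInjectives T]
  {T' : Type u'} [Category.{v'} T'] [Abelian T'] [EnoughInjectives T']
  {a : T' ⥤ T} {ε : T ⥤ T'} (adj : a ⊣ ε) [ε.Full] [ε.Faithful]
  [a.Additive] [PreservesFiniteLimits a] [PreservesFiniteColimits a]
  [ε.Additive] [PreservesFiniteLimits ε]
  {P : ObjectProperty T'} [WSerre.IsWeakSerre P] (hP : ∀ M, P M → IsIso (adj.unit.app M))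

include adj in
/-- `a` of the homology of `ε S` is the homology of `S`. -/
noncomputable def aHomologyIso (S : ShortComplex T) :
    a.obj (S.map ε).homology ≅ S.homology :=
  have := Functor.preservesHomologyOfExact a
  ((S.map ε).mapHomologyIso a).symm ≪≫
    ShortComplex.homologyMapIso
      (ShortComplex.isoMk (S₁ := (S.map ε).map a) (S₂ := S) (asIso (adj.counit.app _))
        (asIso (adj.counit.app _)) (asIso (adj.counit.app _))
        (adj.counit.naturality S.f).symm (adj.counit.naturality S.g).symm)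

include adj in
theorem isZero_a_rightDerived (F : T) (i : ℕ) :
    IsZero (a.obj ((ε.rightDerived (i + 1)).obj F)) := by
  let I := injectiveResolution F
  refine IsZero.of_iso ?_ (a.mapIso (I.isoRightDerivedObj ε (i + 1)) ≪≫
    aHomologyIso adj (I.cocomplex.sc (i + 1)))
  exact (I.cocomplex_exactAt_succ i).isZero_homology

include adj hP in
/-- On `P`, `ε` of the homology of `S` is the homology of `ε S`. -/
noncomputable def epsHomologyIso (S : ShortComplex T) (h : P (S.map ε).homology) :
    ε.obj S.homology ≅ (S.map ε).homology :=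
  have := hP _ h
  (ε.mapIso (aHomologyIso adj S)).symm ≪≫ (asIso (adj.unit.app _)).symm

include adj hP in
/-- An `a`-trivial object has no maps to `P`. -/
theorem eq_zero_of_isZero_a {K L : T'} (hK : IsZero (a.obj K)) (hL : P L) (f : K ⟶ L) : f = 0 := by
  have := hP L hL
  rw [← cancel_mono (adj.unit.app L), zero_comp]
  refine (adj.unit.naturality f).trans ?_
  rw [Functor.comp_map, show a.map f = 0 from hK.eq_of_src _ _, ε.map_zero, comp_zero]

/-- `ker d⁰ = H⁰`. -/
noncomputable def zcZeroIso {A : Type*} [Category* A] [Abelian A] (M : CochainComplex A ℕ) :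
    zc M 0 ≅ M.homology 0 :=
  ((M.cyclesIsKernel 0 1 (by simp)).conePointUniqueUpToIso (limit.isLimit _)).symm ≪≫
    M.isoHomologyπ₀

/-- `ker d` as cycles. -/
noncomputable def zcCyclesIso {A : Type*} [Category* A] [Abelian A] (M : CochainComplex A ℕ) (i : ℕ) :
    zc M i ≅ (M.sc i).cycles :=
  ((M.cyclesIsKernel i (i + 1) (by simp)).conePointUniqueUpToIso (limit.isLimit _)).symm

section

variable (n : ℕ) (hV : ∀ G, P (ε.obj G) → ∀ i, 1 ≤ i → i ≤ n → IsZero ((ε.rightDerived i).obj G))

include hV in
theorem isZero_rightDerived_zc (Q : CochainComplex T ℕ) [∀ i, Injective (Q.X i)] :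
    ∀ (i k : ℕ), (∀ q, q ≤ i → P (ε.obj (Q.homology q))) → i + (k + 1) ≤ n →
      IsZero ((ε.rightDerived (k + 1)).obj (zc Q i)) := by
  intro i
  induction i with
  | zero =>
    intro k hQ hk
    exact (hV _ (hQ 0 le_rfl) (k + 1) (by omega) (by omega)).of_iso
      ((ε.rightDerived (k + 1)).mapIso (zcZeroIso Q))
  | succ i ih =>
    intro k hQ hk
    let S := Q.sc (i + 1)
    obtain ⟨f⟩ := nonempty_kernel_f Q i
    have hb := bdSC_shortExact S
    have : Injective (bdSC S).X₂ := inferInstanceAs (Injective (Q.X ((ComplexShape.up ℕ).prev (i + 1))))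
    have hbd : IsZero ((ε.rightDerived (k + 1)).obj (bd S)) :=
      ((ih (k + 1) (fun q hq => hQ q (by omega)) (by omega)).of_iso
        ((ε.rightDerived (k + 1 + 1)).mapIso f.symm)).of_iso (shiftIso hb ε k).symm
    let C : ShortComplex T := ShortComplex.mk (kernel.ι S.homologyπ) S.homologyπ (kernel.condition _)
    have hC : C.ShortExact :=
      { exact := ShortComplex.exact_of_f_is_kernel _ (kernelIsKernel _)
        epi_g := inferInstanceAs (Epi S.homologyπ) }
    exact (isZero_rightDerived_X₂ ε k C hC hbd (hV _ (hQ _ le_rfl) (k + 1) (by omega) (by omega))).of_iso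
      ((ε.rightDerived (k + 1)).mapIso (zcCyclesIso Q (i + 1)))

include hV in
theorem mono_gamma_eps (Q : CochainComplex T ℕ) [∀ i, Injective (Q.X i)]
    (hQ : ∀ q, q < n → P (ε.obj (Q.homology q))) : Mono (gamma ε (Q.sc n)) := by
  refine mono_gamma_of_epi ε _ ?_
  cases n with
  | zero =>
    have h0 : toBd (Q.sc 0) = 0 := by
      rw [← cancel_mono (kernel.ι (Q.sc 0).homologyπ ≫ (Q.sc 0).iCycles), toBd_comp_iCycles, zero_comp]
      exact Q.shape _ _ (by simp)
    have : IsZero (bd (Q.sc 0)) := by
      rw [IsZero.iff_id_eq_zero, ← cancel_epi (toBd (Q.sc 0))]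
      simp [h0]
    exact ⟨fun g h _ => (ε.map_isZero this).eq_of_src g h⟩
  | succ m =>
    obtain ⟨f⟩ := nonempty_kernel_f Q m
    have : Injective (bdSC (Q.sc (m + 1))).X₂ :=
      inferInstanceAs (Injective (Q.X ((ComplexShape.up ℕ).prev (m + 1))))
    exact epi_map_g_of_isZero (bdSC_shortExact (Q.sc (m + 1))) ε
      ((isZero_rightDerived_zc (m + 1) hV Q m 0 (fun q hq => hQ q (by omega)) le_rfl).of_iso
        ((ε.rightDerived 1).mapIso f.symm))

include adj hV in
theorem mono_unit_homology (Q : CochainComplex T ℕ) [∀ i, Injective (Q.X i)]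
    (hQ : ∀ q, q < n → P (ε.obj (Q.homology q))) :
    Mono (adj.unit.app ((Q.sc n).map ε).homology) := by
  have := mono_gamma_eps n hV Q hQ
  have h : adj.unit.app _ ≫ ε.map ((adj.homEquiv _ _).symm (gamma ε (Q.sc n))) = gamma ε (Q.sc n) :=
    (adj.homEquiv_unit _ _ _).symm.trans ((adj.homEquiv _ _).apply_symm_apply _)
  exact mono_of_mono_fac h

end

section

variable (hinj : ∀ I : T, Injective I → Injective (ε.obj I))
  (Φ : T' ⥤ T') [Φ.Additive] [PreservesFiniteLimits Φ]

include hinj in
/-- The image of a resolution has injective terms. -/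
theorem injective_eps_X (F : T) (i : ℕ) :
    Injective (((ε.mapHomologicalComplex (ComplexShape.up ℕ)).obj (injectiveResolution F).cocomplex).X i) :=
  hinj _ ((injectiveResolution F).injective i)

/-- `ker d⁰` of `ε` of a resolution. -/
noncomputable def zcEpsIso (F : T) :
    zc ((ε.mapHomologicalComplex (ComplexShape.up ℕ)).obj (injectiveResolution F).cocomplex) 0 ≅ ε.obj F :=
  (limit.isLimit _).conePointUniqueUpToIso
    (KernelFork.mapIsLimit _ (injectiveResolution F).isLimitKernelFork ε)

theorem exactAt_eps (F : T) (n : ℕ) (hF : ∀ i, 1 ≤ i → i ≤ n → IsZero ((ε.rightDerived i).obj F)) :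
    ∀ j, 0 < j → j ≤ n →
      ((ε.mapHomologicalComplex (ComplexShape.up ℕ)).obj (injectiveResolution F).cocomplex).ExactAt j :=
  fun j h1 h2 => (HomologicalComplex.exactAt_iff_isZero_homology _ _).2
    ((hF j h1 h2).of_iso ((injectiveResolution F).isoRightDerivedObj ε j).symm)

include hinj in
/-- `R^i Φ (ε F)` is computed by `Φ ε` of a resolution of `F`, for `i ≤ n`. -/
theorem nonempty_rightDerived_eps (F : T) (n : ℕ)
    (hF : ∀ i, 1 ≤ i → i ≤ n → IsZero ((ε.rightDerived i).obj F)) (i : ℕ) (hi : i ≤ n) :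
    Nonempty (((ε ⋙ Φ).rightDerived i).obj F ≅ (Φ.rightDerived i).obj (ε.obj F)) := by
  haveI : PreservesFiniteLimits (ε ⋙ Φ) := comp_preservesFiniteLimits ε Φ
  cases i with
  | zero => exact ⟨(ε ⋙ Φ).rightDerivedZeroIsoSelf.app F ≪≫ (Φ.rightDerivedZeroIsoSelf.app (ε.obj F)).symm⟩
  | succ i =>
    have := injective_eps_X hinj F
    obtain ⟨e⟩ := nonempty_rightDerived_iso_homology Φ
      ((ε.mapHomologicalComplex (ComplexShape.up ℕ)).obj (injectiveResolution F).cocomplex) i
      fun j h1 h2 => exactAt_eps F n hF j h1 (by omega)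
    refine ⟨(injectiveResolution F).isoRightDerivedObj (ε ⋙ Φ) (i + 1) ≪≫ ?_ ≪≫ e.symm ≪≫
      (Φ.rightDerived (i + 1)).mapIso (zcEpsIso F)⟩
    exact Iso.refl _

include adj hP hinj in
/-- The inductive step: `α` is injective on `R^{n+1} ε F`. -/
theorem mono_app_rightDerived (n : ℕ)
    (hV : ∀ G, P (ε.obj G) → ∀ i, 1 ≤ i → i ≤ n → IsZero ((ε.rightDerived i).obj G))
    (U : T ⥤ T) [U.Additive] [PreservesFiniteLimits U]
    (hU : ∀ I : T, Injective I → Injective (U.obj I))
    (β : 𝟭 T ⟶ U) [∀ G, Mono (β.app G)] (α : 𝟭 T' ⟶ Φ)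
    (e : U ⋙ ε ≅ ε ⋙ Φ) (hβ : ∀ G, ε.map (β.app G) ≫ e.hom.app G = α.app (ε.obj G))
    (F : T) (hF : P (ε.obj F)) (hR : ∀ q, P ((Φ.rightDerived q).obj (ε.obj F))) :
    Mono (α.app ((ε.rightDerived (n + 1)).obj F)) := by
  let I := (injectiveResolution F).cocomplex
  let M := (ε.mapHomologicalComplex (ComplexShape.up ℕ)).obj I
  have hFz : ∀ i, 1 ≤ i → i ≤ n → IsZero ((ε.rightDerived i).obj F) := fun i h1 h2 => hV F hF i h1 h2
  have hMinj := injective_eps_X hinj F
  let Q : CochainComplex T ℕ :=
    { X := fun i => cokernel (β.app (I.X i))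
      d := fun i j => cokernel.map _ _ (I.d i j) (U.map (I.d i j)) (β.naturality (I.d i j)).symm
      shape := fun i j hij => by ext; simp [I.shape i j hij]
      d_comp_d' := fun i j k _ _ => by
        ext
        simp only [cokernel.map, cokernel.π_desc_assoc, Category.assoc, cokernel.π_desc, comp_zero]
        rw [← Category.assoc, ← U.map_comp, I.d_comp_d, U.map_zero, zero_comp] }
  let IU := (U.mapHomologicalComplex (ComplexShape.up ℕ)).obj I
  let bI : I ⟶ IU :=
    { f := fun i => β.app (I.X i), comm' := fun i j _ => (β.naturality (I.d i j)).symm }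
  let qI : IU ⟶ Q :=
    { f := fun i => cokernel.π (β.app (I.X i))
      comm' := fun i j _ => cokernel.π_desc _ _ _ }
  let S : ShortComplex (CochainComplex T ℕ) := ShortComplex.mk bI qI (by ext i; simp [bI, qI])
  have hdeg : ∀ i, (S.map (HomologicalComplex.eval T (ComplexShape.up ℕ) i)).ShortExact := fun i =>
    { exact := ShortComplex.exact_of_g_is_cokernel _ (cokernelIsCokernel (β.app (I.X i)))
      mono_f := inferInstanceAs (Mono (β.app (I.X i)))
      epi_g := inferInstanceAs (Epi (cokernel.π (β.app (I.X i)))) }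
  have spl : ∀ i, (S.map (HomologicalComplex.eval T (ComplexShape.up ℕ) i)).Splitting := fun i =>
    have : Injective (S.map (HomologicalComplex.eval T (ComplexShape.up ℕ) i)).X₁ :=
      (injectiveResolution F).injective i
    (hdeg i).splittingOfInjective
  have hQinj : ∀ i, Injective (Q.X i) := fun i => by
    have : Injective (S.map (HomologicalComplex.eval T (ComplexShape.up ℕ) i)).X₂ :=
      hU _ ((injectiveResolution F).injective i)
    exact Retract.injective ⟨(spl i).s, cokernel.π (β.app (I.X i)), (spl i).s_g⟩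
  let S' := S.map (ε.mapHomologicalComplex (ComplexShape.up ℕ))
  have hS' : S'.ShortExact :=
    HomologicalComplex.shortExact_of_degreewise_shortExact S' fun i => ((spl i).map ε).shortExact
  let eM : (ε.mapHomologicalComplex (ComplexShape.up ℕ)).obj IU ≅
      (Φ.mapHomologicalComplex (ComplexShape.up ℕ)).obj M :=
    HomologicalComplex.Hom.isoOfComponents (fun i => e.app (I.X i))
      (fun i j _ => (e.hom.naturality (I.d i j)).symm)
  have hM0 : ∀ q, q ≤ n → P (M.homology q) := by
    intro q hq
    cases q with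
    | zero => exact P.prop_of_iso ((zcEpsIso F).symm ≪≫ zcZeroIso M) hF
    | succ q =>
      exact P.prop_of_isZero ((exactAt_eps F n hFz (q + 1) (by omega) hq).isZero_homology)
  have hM1 : ∀ q, q ≤ n → P (S'.X₂.homology q) := by
    intro q hq
    obtain ⟨e'⟩ := nonempty_rightDerived_eps hinj Φ F n hFz q hq
    exact P.prop_of_iso (e'.symm ≪≫ (injectiveResolution F).isoRightDerivedObj (ε ⋙ Φ) q ≪≫
      ((HomologicalComplex.homologyFunctor T' _ q).mapIso eM).symm) (hR q)
  have hQ : ∀ q, q < n → P (ε.obj (Q.homology q)) := by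
    intro q hq
    have h1 : IsZero (S'.X₁.homology (q + 1)) :=
      (exactAt_eps F n hFz (q + 1) (by omega) (by omega)).isZero_homology
    have : Epi (HomologicalComplex.homologyMap S'.g q) :=
      (hS'.homology_exact₃ q (q + 1) rfl).epi_f (h1.eq_of_tgt _ _)
    have hc : P (S'.X₃.homology q) :=
      P.prop_of_isColimit_cokernelCofork (hS'.homology_exact₂ q).gIsCokernel (hM0 q hq.le) (hM1 q hq.le)
    exact P.prop_of_iso (epsHomologyIso adj hP (Q.sc q) hc).symm hc
  have hunit : Mono (adj.unit.app (S'.X₃.homology n)) := mono_unit_homology adj n hV Q hQ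
  let f₂ := HomologicalComplex.homologyMap S'.f n
  let g₂ := HomologicalComplex.homologyMap S'.g n
  have hex := hS'.homology_exact₂ n
  let W := cokernel f₂
  have hW : P W := P.prop_of_isColimit_cokernelCofork (colimit.isColimit (parallelPair f₂ 0))
    (hM0 n le_rfl) (hM1 n le_rfl)
  let w : W ⟶ S'.X₃.homology n :=
    cokernel.desc f₂ g₂ (by rw [← HomologicalComplex.homologyMap_comp, S'.zero, HomologicalComplex.homologyMap_zero])
  have : Mono w := hex.mono_cokernelDesc
  have haH : IsZero (a.obj (M.homology (n + 1))) :=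
    (isZero_a_rightDerived adj F n).of_iso
      (a.mapIso ((injectiveResolution F).isoRightDerivedObj ε (n + 1))).symm
  have : Epi (a.map w) := by
    have h3 := (hS'.homology_exact₃ n (n + 1) rfl).map a
    have : Epi (a.map g₂) := h3.epi_f ((haH.eq_of_tgt _ _))
    have : Epi (a.map (cokernel.π f₂) ≫ a.map w) := by
      rw [← a.map_comp, cokernel.π_desc]; infer_instance
    exact epi_of_epi (a.map (cokernel.π f₂)) _
  have : IsIso (a.map w) := isIso_of_mono_of_epi _
  have hw : IsIso w := by
    have : IsIso (adj.unit.app W) := hP W hW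
    have h0 : w ≫ adj.unit.app (S'.X₃.homology n) = adj.unit.app W ≫ ε.map (a.map w) :=
      adj.unit.naturality w
    have hi : IsIso (adj.unit.app W ≫ ε.map (a.map w)) := inferInstance
    have : IsIso (w ≫ adj.unit.app (S'.X₃.homology n)) := h0.symm ▸ hi
    have := epi_of_epi w (adj.unit.app (S'.X₃.homology n))
    have : IsIso (adj.unit.app (S'.X₃.homology n)) := isIso_of_mono_of_epi _
    exact IsIso.of_isIso_comp_right w (adj.unit.app (S'.X₃.homology n))
  have : Epi g₂ := by
    rw [← cokernel.π_desc f₂ g₂ (by rw [← HomologicalComplex.homologyMap_comp, S'.zero, HomologicalComplex.homologyMap_zero])]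
    exact epi_comp (cokernel.π f₂) w
  have hmono : Mono (HomologicalComplex.homologyMap S'.f (n + 1)) :=
    (hS'.homology_exact₁ n (n + 1) rfl).mono_g
      (by
        change hS'.δ n (n + 1) rfl = 0
        rw [← cancel_epi g₂, comp_zero]
        exact hS'.comp_δ n (n + 1) rfl)
  let Sn := M.sc (n + 1)
  let αm : Sn.map (𝟭 T') ⟶ Sn.map Φ := Sn.mapNatTrans α
  have hαm : HomologicalComplex.homologyMap (S'.f ≫ eM.hom) (n + 1) = ShortComplex.homologyMap αm := by
    change ShortComplex.homologyMap ((HomologicalComplex.shortComplexFunctor T' _ (n + 1)).map (S'.f ≫ eM.hom)) = _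
    refine congrArg (fun φ : Sn.map (𝟭 T') ⟶ Sn.map Φ => ShortComplex.homologyMap φ) ?_
    ext <;> exact hβ _
  have : Mono (ShortComplex.homologyMap αm) := by
    rw [← hαm, HomologicalComplex.homologyMap_comp]
    exact mono_comp _ _
  obtain ⟨eL⟩ := nonempty_rightDerived_iso_kernel_gamma Φ M n fun j h1 h2 => exactAt_eps F n hFz j h1 h2
  have hL : P (kernel (gamma Φ Sn)) :=
    P.prop_of_iso ((Φ.rightDerived (n + 1)).mapIso (zcEpsIso F).symm ≪≫ eL) (hR (n + 1))
  have hmain : Mono (gamma (𝟭 T') Sn ≫ α.app Sn.homology) := by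
    refine Preadditive.mono_of_kernel_zero ?_
    let k := kernel.ι (gamma (𝟭 T') Sn ≫ α.app Sn.homology)
    have hk : (k ≫ ShortComplex.homologyMap αm) ≫ gamma Φ Sn = 0 := by
      rw [Category.assoc, homologyMap_gamma, kernel.condition]
    have haK : IsZero (a.obj (kernel (gamma (𝟭 T') Sn ≫ α.app Sn.homology))) :=
      IsZero.of_mono (a.map k) haH
    have h0 := eq_zero_of_isZero_a adj hP haK hL (kernel.lift _ _ hk)
    have : k ≫ ShortComplex.homologyMap αm = 0 := by
      rw [← kernel.lift_ι _ _ hk, h0, zero_comp]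
    exact zero_of_comp_mono (ShortComplex.homologyMap αm) this
  have : Mono (α.app Sn.homology) := by
    have : α.app Sn.homology = inv (gamma (𝟭 T') Sn) ≫ (gamma (𝟭 T') Sn ≫ α.app Sn.homology) :=
      (IsIso.inv_hom_id_assoc _ _).symm
    rw [this]; exact mono_comp _ _
  have hn := α.naturality ((injectiveResolution F).isoRightDerivedObj ε (n + 1)).hom
  have h1 : Mono ((α.app _) ≫ Φ.map ((injectiveResolution F).isoRightDerivedObj ε (n + 1)).hom) := by
    rw [← hn]
    exact @mono_comp _ _ _ _ _ ((𝟭 T').map _) (inferInstanceAs (Mono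
      ((injectiveResolution F).isoRightDerivedObj ε (n + 1)).hom)) _ ‹Mono (α.app Sn.homology)›
  exact mono_of_mono (α.app _) (Φ.map ((injectiveResolution F).isoRightDerivedObj ε (n + 1)).hom)

end

end GrothLib.HomGamma
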