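import Groth.Agent.Lib.DerCat.Truncation

/-! # The ghost lemma -/

set_option autoImplicit false
universe w v u

open CategoryTheory Limits Pretriangulated DerivedCategory

namespace GrothLib.DerTrunc

variable {A : Type u} [Category.{v} A] [Abelian A] [HasDerivedCategory.{w} A]

/-- A map of objects concentrated in one degree vanishes with its cohomology. -/
theorem eq_zero_of_single_degree {X Y : DerivedCategory A} (n : ℤ) [X.IsGE n] [X.IsLE n] [Y.IsGE n] [Y.IsLE n]
    (f : X ⟶ Y) (h : (homologyFunctor A n).map f = 0) : f = 0 := by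
  obtain ⟨e⟩ := nonempty_iso_single X n
  obtain ⟨e'⟩ := nonempty_iso_single Y n
  obtain ⟨φ, hφ⟩ := (singleFunctor A n).map_surjective (e.inv ≫ f ≫ e'.hom)
  have h' : (homologyFunctor A n).map ((singleFunctor A n).map φ) = 0 := by
    rw [hφ, Functor.map_comp, Functor.map_comp, h, zero_comp, comp_zero]
  have hn : (homologyFunctor A n).map ((singleFunctor A n).map φ) ≫
      (singleFunctorCompHomologyFunctorIso A n).hom.app _ =
      (singleFunctorCompHomologyFunctorIso A n).hom.app _ ≫ φ :=
    (singleFunctorCompHomologyFunctorIso A n).hom.naturality φ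
  rw [h', zero_comp] at hn
  have hφ0 : φ = 0 := (cancel_epi ((singleFunctorCompHomologyFunctorIso A n).hom.app _)).1
    (hn.symm.trans comp_zero.symm)
  subst hφ0
  rw [Functor.map_zero] at hφ
  rw [← e.hom_inv_id_assoc f, ← Category.comp_id f, ← e'.hom_inv_id, reassoc_of% hφ.symm]
  simp

/-- **Ghost lemma.** -/
theorem comp_eq_zero_of_ghost : ∀ (m : ℕ) (a : ℤ) (K : ℕ ⥤ DerivedCategory A),
    (∀ i ≤ m, (K.obj i).IsGE a) → (∀ i ≤ m, (K.obj i).IsLE (a + m - 1)) →
    (∀ i, i + 1 ≤ m → ∀ q, (homologyFunctor A q).map (K.map (homOfLE (Nat.le_succ i))) = 0) →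
    K.map (homOfLE (Nat.zero_le m)) = 0 := by
  intro m
  induction m with
  | zero =>
    intro a K hGE hLE _
    have := hGE 0 le_rfl
    have := hLE 0 le_rfl
    exact (isZero_of_forall (K.obj 0) fun i => by
      rcases lt_or_ge i a with hi | hi
      · exact isZero_of_isGE _ a i hi
      · exact isZero_of_isLE _ (a + (0 : ℕ) - 1) i (by omega)).eq_of_src _ _
  | succ m ih =>
    intro a K hGE hLE hzero
    let t : Triangulated.TStructure (DerivedCategory A) := TStructure.t
    have hK : (K ⋙ t.truncGE (a + 1)).map (homOfLE (Nat.zero_le m)) = 0 := by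
      refine ih (a + 1) _ (fun i _ => inferInstanceAs (TStructure.t.IsGE ((TStructure.t.truncGE (a + 1)).obj (K.obj i)) (a + 1))) (fun i hi => ?_)
        fun i hi q => ?_
      · have := hLE i (by omega)
        rw [show a + 1 + (m : ℤ) - 1 = a + ((m + 1 : ℕ) : ℤ) - 1 by omega]
        exact inferInstanceAs (TStructure.t.IsLE ((TStructure.t.truncGE (a + 1)).obj (K.obj i)) _)
      · rcases lt_or_ge q (a + 1) with hq | hq
        · exact (isZero_homology_truncGE (K.obj i) (a + 1) q hq).eq_of_src _ _
        · have := isIso_homology_truncGEπ (K.obj i) (a + 1) q hq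
          refine (cancel_epi ((homologyFunctor A q).map ((TStructure.t.truncGEπ (a + 1)).app (K.obj i)))).1 ?_
          rw [comp_zero, ← Functor.map_comp]
          refine (congrArg ((homologyFunctor A q).map) ((TStructure.t.truncGEπ (a + 1)).naturality
            (K.map (homOfLE (Nat.le_succ i)))).symm).trans ?_
          simp [hzero i (by omega) q]
    have hfac : K.map (homOfLE (Nat.zero_le m)) ≫ (t.truncGEπ (a + 1)).app (K.obj m) = 0 := by
      refine ((t.truncGEπ (a + 1)).naturality (K.map (homOfLE (Nat.zero_le m)))).trans ?_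
      rw [show (t.truncGE (a + 1)).map (K.map (homOfLE (Nat.zero_le m))) = 0 from hK, comp_zero]
    obtain ⟨χ, hχ⟩ := Triangle.coyoneda_exact₂ _ (t.triangleLTGE_distinguished (a + 1) (K.obj m)) _ hfac
    let g := K.map (homOfLE (Nat.le_succ m))
    have := hGE m (by omega)
    have := hGE (m + 1) le_rfl
    have l1 : ((t.truncLT (a + 1)).obj (K.obj m)).IsLE a :=
      inferInstanceAs (TStructure.t.IsLE ((TStructure.t.truncLT (a + 1)).obj (K.obj m)) a)
    have g1 : ((t.truncLT (a + 1)).obj (K.obj m)).IsGE a :=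
      inferInstanceAs (TStructure.t.IsGE ((TStructure.t.truncLT (a + 1)).obj (K.obj m)) a)
    have l2 : ((t.truncLT (a + 1)).obj (K.obj (m + 1))).IsLE a :=
      inferInstanceAs (TStructure.t.IsLE ((TStructure.t.truncLT (a + 1)).obj (K.obj (m + 1))) a)
    have g2 : ((t.truncLT (a + 1)).obj (K.obj (m + 1))).IsGE a :=
      inferInstanceAs (TStructure.t.IsGE ((TStructure.t.truncLT (a + 1)).obj (K.obj (m + 1))) a)
    have hg : (t.truncLT (a + 1)).map g = 0 := by
      refine eq_zero_of_single_degree a _ ?_
      have := isIso_homology_truncLTι (K.obj (m + 1)) (a + 1) a (by omega)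
      refine (cancel_mono ((homologyFunctor A a).map ((TStructure.t.truncLTι (a + 1)).app (K.obj (m + 1))))).1 ?_
      rw [zero_comp, ← Functor.map_comp]
      refine (congrArg ((homologyFunctor A a).map) ((TStructure.t.truncLTι (a + 1)).naturality g)).trans ?_
      simp [g, hzero m le_rfl a]
    have hι : (t.truncLTι (a + 1)).app (K.obj m) ≫ g = 0 := by
      refine ((t.truncLTι (a + 1)).naturality g).symm.trans ?_
      rw [hg, zero_comp]
    have hsplit : K.map (homOfLE (Nat.zero_le (m + 1))) = K.map (homOfLE (Nat.zero_le m)) ≫ g := by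
      rw [← K.map_comp]
      rfl
    rw [hsplit]
    refine (congrArg (· ≫ g) hχ).trans ((Category.assoc _ _ _).trans ?_)
    exact (congrArg (χ ≫ ·) hι).trans comp_zero

end GrothLib.DerTrunc
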