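import Mathlib.Algebra.Homology.ShortComplex.Abelian
import Mathlib.Algebra.Homology.ShortComplex.ShortExact
import Mathlib.Algebra.Homology.ShortComplex.PreservesHomology
import Mathlib.CategoryTheory.Abelian.Refinements
import Mathlib.CategoryTheory.Preadditive.LeftExact

/-!
# The comparison `H(Φ S) ⟶ Φ H(S)` for a left exact functor
-/

universe v v' u u'

open CategoryTheory CategoryTheory.Limits

set_option backward.isDefEq.respectTransparency false

namespace GrothLib.HomGamma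

variable {A : Type u} [Category.{v} A] [Abelian A] {B : Type u'} [Category.{v'} B] [Abelian B]
  (Φ : A ⥤ B) [Φ.Additive] [PreservesFiniteLimits Φ] (S : ShortComplex A)

/-- The comparison on cycles. -/
noncomputable def cyclesCmp : Φ.obj S.cycles ⟶ (S.map Φ).cycles :=
  (S.map Φ).liftCycles (Φ.map S.iCycles)
    (by change Φ.map S.iCycles ≫ Φ.map S.g = 0; rw [← Φ.map_comp, S.iCycles_g, Φ.map_zero])

@[reassoc (attr := simp)]
lemma cyclesCmp_i : cyclesCmp Φ S ≫ (S.map Φ).iCycles = Φ.map S.iCycles :=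
  ShortComplex.liftCycles_i _ _ _

instance isIso_cyclesCmp : IsIso (cyclesCmp Φ S) := by
  let hl := KernelFork.mapIsLimit _ S.cyclesIsKernel Φ
  let l : (S.map Φ).cycles ⟶ Φ.obj S.cycles :=
    hl.lift (KernelFork.ofι (f := Φ.map S.g) (S.map Φ).iCycles (S.map Φ).iCycles_g)
  have hl' : l ≫ Φ.map S.iCycles = (S.map Φ).iCycles :=
    hl.fac (KernelFork.ofι (f := Φ.map S.g) (S.map Φ).iCycles (S.map Φ).iCycles_g)
      WalkingParallelPair.zero
  refine ⟨l, ?_, ?_⟩
  · apply Fork.IsLimit.hom_ext hl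
    change (cyclesCmp Φ S ≫ l) ≫ Φ.map S.iCycles = 𝟙 _ ≫ Φ.map S.iCycles
    exact (Category.assoc _ _ _).trans ((congrArg (cyclesCmp Φ S ≫ ·) hl').trans
      ((cyclesCmp_i Φ S).trans (Category.id_comp _).symm))
  · rw [← cancel_mono (S.map Φ).iCycles, Category.assoc, cyclesCmp_i]
    exact hl'.trans (Category.id_comp _).symm

lemma toCycles_cyclesCmp : Φ.map S.toCycles ≫ cyclesCmp Φ S = (S.map Φ).toCycles := by
  rw [← cancel_mono (S.map Φ).iCycles, Category.assoc, cyclesCmp_i, ShortComplex.toCycles_i]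
  exact (Φ.map_comp _ _).symm.trans (congrArg Φ.map S.toCycles_i)

/-- `H(Φ S) ⟶ Φ H(S)`. -/
noncomputable def gamma : (S.map Φ).homology ⟶ Φ.obj S.homology :=
  (S.map Φ).descHomology (inv (cyclesCmp Φ S) ≫ Φ.map S.homologyπ) (by
    rw [← toCycles_cyclesCmp]
    simp only [Category.assoc, IsIso.hom_inv_id_assoc]
    rw [← Φ.map_comp, S.toCycles_comp_homologyπ, Φ.map_zero])

@[reassoc (attr := simp)]
lemma cyclesCmp_π_gamma :
    cyclesCmp Φ S ≫ (S.map Φ).homologyπ ≫ gamma Φ S = Φ.map S.homologyπ := by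
  simp [gamma]

/-- The boundaries. -/
noncomputable def bd : A := kernel S.homologyπ

/-- The map onto the boundaries. -/
noncomputable def toBd : S.X₁ ⟶ bd S := kernel.lift _ S.toCycles S.toCycles_comp_homologyπ

lemma toBd_ι : toBd S ≫ kernel.ι S.homologyπ = S.toCycles := kernel.lift_ι _ _ _

/-- The kernel part of `gamma`. -/
noncomputable def fromBd : cokernel (Φ.map (toBd S)) ⟶ (S.map Φ).homology :=
  cokernel.desc _ (Φ.map (kernel.ι S.homologyπ) ≫ cyclesCmp Φ S ≫ (S.map Φ).homologyπ) (by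
    rw [← Φ.map_comp_assoc, toBd_ι, ← Category.assoc, toCycles_cyclesCmp,
      ShortComplex.toCycles_comp_homologyπ])

lemma fromBd_gamma : fromBd Φ S ≫ gamma Φ S = 0 := by
  rw [← cancel_epi (cokernel.π (Φ.map (toBd S))), fromBd, cokernel.π_desc_assoc, Category.assoc,
    Category.assoc, cyclesCmp_π_gamma, ← Φ.map_comp, kernel.condition, Φ.map_zero, comp_zero]

theorem fromBd_exact : (ShortComplex.mk _ _ (fromBd_gamma Φ S)).Exact := by
  rw [ShortComplex.exact_iff_exact_up_to_refinements]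
  intro T x hx
  obtain ⟨T', p, hp, z, hz⟩ := surjective_up_to_refinements_of_epi
    (cyclesCmp Φ S ≫ (S.map Φ).homologyπ) x
  have hz0 : z ≫ Φ.map S.homologyπ = 0 := by
    rw [← cyclesCmp_π_gamma Φ S, ← Category.assoc, ← Category.assoc,
      Category.assoc z, ← hz, Category.assoc, show x ≫ gamma Φ S = 0 from hx, comp_zero]
  obtain ⟨y, hy⟩ := KernelFork.IsLimit.lift'
    (isLimitOfHasKernelOfPreservesLimit Φ S.homologyπ) z hz0
  refine ⟨T', p, hp, y ≫ cokernel.π (Φ.map (toBd S)), ?_⟩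
  dsimp
  rw [hz, fromBd, Category.assoc, cokernel.π_desc, ← Category.assoc y, show y ≫ Φ.map (kernel.ι S.homologyπ) = z from hy]

theorem mono_fromBd : Mono (fromBd Φ S) := by
  refine Preadditive.mono_of_cancel_zero _ fun {T} x hx => ?_
  obtain ⟨T', p, hp, y, hy⟩ := surjective_up_to_refinements_of_epi (cokernel.π (Φ.map (toBd S))) x
  have h : (y ≫ Φ.map (kernel.ι S.homologyπ) ≫ cyclesCmp Φ S) ≫ (S.map Φ).homologyπ = 0 := by
    have := hy =≫ fromBd Φ S
    rw [Category.assoc, hx, comp_zero, Category.assoc, fromBd, cokernel.π_desc] at this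
    simpa using this.symm
  obtain ⟨T'', q, hq, w, hw⟩ :=
    (ShortComplex.exact_of_g_is_cokernel
      (ShortComplex.mk _ _ (S.map Φ).toCycles_comp_homologyπ) (S.map Φ).homologyIsCokernel).exact_up_to_refinements
      (y ≫ Φ.map (kernel.ι S.homologyπ) ≫ cyclesCmp Φ S) h
  dsimp at hw
  rw [← toCycles_cyclesCmp, ← toBd_ι, Φ.map_comp, ← Category.assoc y, ← Category.assoc q,
    ← Category.assoc w, cancel_mono, ← Category.assoc, ← Category.assoc, cancel_mono] at hw
  rw [← cancel_epi p, hy, comp_zero, ← cancel_epi q, ← Category.assoc, hw, Category.assoc,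
    cokernel.condition, comp_zero, comp_zero]

/-- `cokernel (Φ X₁ → Φ B)` is the kernel of `gamma`. -/
noncomputable def kernelGammaIso : cokernel (Φ.map (toBd S)) ≅ kernel (gamma Φ S) :=
  have := mono_fromBd Φ S
  (fromBd_exact Φ S).fIsKernel.conePointUniqueUpToIso (limit.isLimit _)

theorem mono_gamma_of_epi (h : Epi (Φ.map (toBd S))) : Mono (gamma Φ S) :=
  (fromBd_exact Φ S).mono_g ((isZero_cokernel_of_epi _).eq_of_src _ _)

instance epi_toBd : Epi (toBd S) :=
  (ShortComplex.exact_of_g_is_cokernel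
    (ShortComplex.mk _ _ S.toCycles_comp_homologyπ) S.homologyIsCokernel).epi_kernelLift

lemma toBd_comp_iCycles : toBd S ≫ kernel.ι S.homologyπ ≫ S.iCycles = S.f := by
  rw [← Category.assoc, toBd_ι, S.toCycles_i]

/-- `X₁ → B` as a short exact sequence with the kernel of `f`. -/
noncomputable def bdSC : ShortComplex A :=
  ShortComplex.mk (kernel.ι S.f) (toBd S) (by
    rw [← cancel_mono (kernel.ι S.homologyπ ≫ S.iCycles), Category.assoc, toBd_comp_iCycles,
      kernel.condition, zero_comp])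

theorem bdSC_shortExact : (bdSC S).ShortExact where
  exact := by
    refine ShortComplex.exact_of_f_is_kernel _ (KernelFork.IsLimit.ofι _ _
      (fun {W} k hk => kernel.lift S.f k (by
        rw [← toBd_comp_iCycles, ← Category.assoc]
        change (k ≫ toBd S) ≫ _ = 0
        rw [show k ≫ toBd S = 0 from hk, zero_comp]))
      (fun k hk => kernel.lift_ι _ _ _) (fun k hk m hm => ?_))
    rw [← cancel_mono (kernel.ι S.f)]
    exact hm.trans (kernel.lift_ι _ _ _).symm
  mono_f := inferInstanceAs (Mono (kernel.ι S.f))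
  epi_g := epi_toBd S

variable {Φ} in
/-- Naturality in the functor. -/
lemma homologyMap_gamma {Ψ : A ⥤ B} [Ψ.Additive] [PreservesFiniteLimits Ψ] (τ : Φ ⟶ Ψ) :
    ShortComplex.homologyMap (S.mapNatTrans τ) ≫ gamma Ψ S = gamma Φ S ≫ τ.app S.homology := by
  rw [← cancel_epi (S.map Φ).homologyπ, ShortComplex.homologyπ_naturality_assoc,
    ← cancel_epi (cyclesCmp Φ S)]
  have h : cyclesCmp Φ S ≫ ShortComplex.cyclesMap (S.mapNatTrans τ) = τ.app _ ≫ cyclesCmp Ψ S := by
    rw [← cancel_mono (S.map Ψ).iCycles, Category.assoc, ShortComplex.cyclesMap_i, cyclesCmp_i_assoc,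
      Category.assoc, cyclesCmp_i]
    exact τ.naturality _
  rw [reassoc_of% h, cyclesCmp_π_gamma, cyclesCmp_π_gamma_assoc]
  exact (τ.naturality _).symm

instance isIso_gamma_id : IsIso (gamma (𝟭 A) S) := by
  have : Epi ((𝟭 A).map (toBd S)) := epi_toBd S
  have := mono_gamma_of_epi (𝟭 A) S this
  have : Epi (cyclesCmp (𝟭 A) S ≫ (S.map (𝟭 A)).homologyπ ≫ gamma (𝟭 A) S) := by
    rw [cyclesCmp_π_gamma]; exact inferInstanceAs (Epi S.homologyπ)
  have := epi_of_epi (cyclesCmp (𝟭 A) S) ((S.map (𝟭 A)).homologyπ ≫ gamma (𝟭 A) S)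
  have := epi_of_epi (S.map (𝟭 A)).homologyπ (gamma (𝟭 A) S)
  exact isIso_of_mono_of_epi _

end GrothLib.HomGamma
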