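import Mathlib.Algebra.Homology.Embedding.ExtendHomology
import Mathlib.Algebra.Homology.Embedding.CochainComplex
import Mathlib.CategoryTheory.Abelian.RightDerived
import Mathlib.CategoryTheory.Abelian.Injective.Extend

/-! # Right derived functors from the extended injective resolution -/

universe v v' u u'

open CategoryTheory Limits

namespace GrothLib.DerTrunc

variable {A : Type u} [Category.{v} A] [Abelian A] {B : Type u'} [Category.{v'} B] [Abelian B]
  (F : A ⥤ B) [F.Additive]

set_option backward.isDefEq.respectTransparency false in
/-- Extension by zero commutes with an additive functor. -/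
noncomputable def mapExtendIso (K : CochainComplex A ℕ) :
    (F.mapHomologicalComplex (ComplexShape.up ℤ)).obj (K.extend ComplexShape.embeddingUpNat) ≅
      HomologicalComplex.extend ((F.mapHomologicalComplex (ComplexShape.up ℕ)).obj K)
        ComplexShape.embeddingUpNat :=
  HomologicalComplex.Hom.isoOfComponents
    (fun n => if h : 0 ≤ n then
        F.mapIso (K.extendXIso ComplexShape.embeddingUpNat (i := n.toNat) (by simp; omega)) ≪≫
          (HomologicalComplex.extendXIso ((F.mapHomologicalComplex (ComplexShape.up ℕ)).obj K)
            ComplexShape.embeddingUpNat (i := n.toNat) (by simp; omega)).symm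
      else (F.map_isZero (K.isZero_extend_X _ n (fun k hk => by simp at hk; omega))).iso
        (HomologicalComplex.isZero_extend_X _ _ n (fun k hk => by simp at hk; omega)))
    (fun i j hij => by
      simp at hij
      by_cases hi : 0 ≤ i
      · rw [dif_pos hi, dif_pos (show 0 ≤ j by omega)]
        dsimp [Functor.mapHomologicalComplex_obj_d]
        change _ = F.map ((K.extend ComplexShape.embeddingUpNat).d i j) ≫ _
        rw [HomologicalComplex.extend_d_eq _ _ (i := i.toNat) (j := j.toNat) (by simp; omega) (by simp; omega),
          HomologicalComplex.extend_d_eq K _ (i := i.toNat) (j := j.toNat) (by simp; omega) (by simp; omega)]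
        simp only [Functor.mapHomologicalComplex_obj_d, Functor.map_comp, Category.assoc, Iso.inv_hom_id_assoc, Iso.map_inv_hom_id_assoc]
      · exact (F.map_isZero (K.isZero_extend_X _ i (fun k hk => by simp at hk; omega))).eq_of_src _ _)

/-- `R^p F` is the cohomology of `F` applied to the extended resolution. -/
noncomputable def rightDerivedExtendIso [HasInjectiveResolutions A] {X : A} (R : InjectiveResolution X)
    (p : ℕ) :
    ((F.mapHomologicalComplex (ComplexShape.up ℤ)).obj R.cochainComplex).homology (p : ℤ) ≅
      (F.rightDerived p).obj X :=
  (HomologicalComplex.homologyFunctor B _ (p : ℤ)).mapIso (mapExtendIso F R.cocomplex) ≪≫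
    HomologicalComplex.extendHomologyIso _ _ (by simp) ≪≫ (R.isoRightDerivedObj F p).symm

end GrothLib.DerTrunc
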