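import Groth.Agent.Lib.DerCat.Truncation

/-! # Cohomology commutes with derived exact functors, naturally -/

universe w w' v v' u u'

open CategoryTheory Limits DerivedCategory

namespace GrothLib.DerTrunc

variable {A : Type u} [Category.{v} A] [Abelian A] [HasDerivedCategory.{w} A]
  {B : Type u'} [Category.{v'} B] [Abelian B] [HasDerivedCategory.{w'} B]
  (F : A ⥤ B) [F.Additive] [PreservesFiniteLimits F] [PreservesFiniteColimits F]

/-- Homology of complexes commutes with an exact functor. -/
noncomputable def mapHomologyNatIso (i : ℤ) :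
    F.mapHomologicalComplex (ComplexShape.up ℤ) ⋙ HomologicalComplex.homologyFunctor B _ i ≅
      HomologicalComplex.homologyFunctor A _ i ⋙ F :=
  NatIso.ofComponents (fun K => (K.sc i).mapHomologyIso F) (fun {K L} f =>
    ShortComplex.mapHomologyIso_hom_naturality
      ((HomologicalComplex.shortComplexFunctor A (ComplexShape.up ℤ) i).map f) F)

/-- Cohomology commutes with the derived functor of an exact functor. -/
noncomputable def homologyMapIso (i : ℤ) :
    F.mapDerivedCategory ⋙ homologyFunctor B i ≅ homologyFunctor A i ⋙ F :=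
  Localization.liftNatIso Q (HomologicalComplex.quasiIso A (ComplexShape.up ℤ))
    (Q ⋙ F.mapDerivedCategory ⋙ homologyFunctor B i) (Q ⋙ homologyFunctor A i ⋙ F) _ _
    ((Functor.associator _ _ _).symm ≪≫
      Functor.isoWhiskerRight F.mapDerivedCategoryFactors _ ≪≫ Functor.associator _ _ _ ≪≫
      Functor.isoWhiskerLeft _ (homologyFunctorFactors B i) ≪≫ mapHomologyNatIso F i ≪≫
      (Functor.isoWhiskerRight (homologyFunctorFactors A i) F).symm ≪≫ Functor.associator _ _ _)

lemma isIso_map_homology_iff {X Y : DerivedCategory A} (g : X ⟶ Y) (i : ℤ) :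
    IsIso ((homologyFunctor B i).map (F.mapDerivedCategory.map g)) ↔
      IsIso (F.map ((homologyFunctor A i).map g)) :=
  NatIso.isIso_map_iff (homologyMapIso F i) g

end GrothLib.DerTrunc
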