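import Groth.Agent.Lib.DerCat.DimShiftRD

/-!
# Right derived functors from complexes of injectives exact in low degrees
-/

universe v v' u u'

open CategoryTheory CategoryTheory.Limits

set_option backward.isDefEq.respectTransparency false

namespace GrothLib.HomGamma

variable {A : Type u} [Category.{v} A] [Abelian A] [HasInjectiveResolutions A]
  {B : Type u'} [Category.{v'} B] [Abelian B] (Φ : A ⥤ B) [Φ.Additive] [PreservesFiniteLimits Φ]
  (M : CochainComplex A ℕ) [∀ i, Injective (M.X i)]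

/-- The cycles of a complex in degree `i`, as a kernel. -/
noncomputable abbrev zc (i : ℕ) : A := kernel (M.d i (i + 1))

omit [PreservesFiniteLimits Φ] in
theorem nonempty_shift (k : ℕ) : ∀ (i : ℕ), (∀ j, i < j → j ≤ i + k → M.ExactAt j) →
    Nonempty ((Φ.rightDerived (k + 1)).obj (zc M i) ≅ (Φ.rightDerived 1).obj (zc M (i + k))) := by
  induction k with
  | zero => exact fun i _ => ⟨Iso.refl _⟩
  | succ k ih =>
    intro i hM
    have h : (DimShift.cyclesSC M i).ShortExact := DimShift.cyclesSC_shortExact M i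
      ((HomologicalComplex.exactAt_iff' M i (i + 1) (i + 2) (by simp) (by simp)).1
        (hM (i + 1) (by omega) (by omega)))
    have : Injective (DimShift.cyclesSC M i).X₂ := inferInstanceAs (Injective (M.X i))
    obtain ⟨e⟩ := ih (i + 1) fun j h1 h2 => hM j (by omega) (by omega)
    exact ⟨shiftIso h Φ k ≪≫ e ≪≫
      eqToIso (congrArg (fun m => (Φ.rightDerived 1).obj (zc M m)) (by omega : i + 1 + k = i + (k + 1)))⟩

omit [HasInjectiveResolutions A] [∀ i, Injective (M.X i)] in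
theorem nonempty_kernel_f (n : ℕ) : Nonempty (zc M n ≅ kernel (M.sc (n + 1)).f) := by
  have : ∀ m, m = n → Nonempty (zc M n ≅ kernel (M.d m (n + 1))) := by
    rintro m rfl; exact ⟨Iso.refl _⟩
  exact this _ (CochainComplex.prev_nat_succ n)

/-- `R^{n+1} (ker d⁰)` is the kernel of `H^{n+1}(Φ M) → Φ H^{n+1} M` when `M` is exact in degrees `1` to `n`. -/
theorem nonempty_rightDerived_iso_kernel_gamma (n : ℕ)
    (hM : ∀ j, 0 < j → j ≤ n → M.ExactAt j) :
    Nonempty ((Φ.rightDerived (n + 1)).obj (zc M 0) ≅ kernel (gamma Φ (M.sc (n + 1)))) := by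
  obtain ⟨e⟩ := nonempty_shift Φ M n 0 fun j h1 h2 => hM j h1 (by omega)
  obtain ⟨f⟩ := nonempty_kernel_f M n
  have h := bdSC_shortExact (M.sc (n + 1))
  have : Injective (bdSC (M.sc (n + 1))).X₂ :=
    inferInstanceAs (Injective (M.X ((ComplexShape.up ℕ).prev (n + 1))))
  exact ⟨e ≪≫ eqToIso (by rw [Nat.zero_add]) ≪≫ (Φ.rightDerived 1).mapIso f ≪≫
    shiftIsoOne h Φ ≪≫ kernelGammaIso Φ (M.sc (n + 1))⟩

/-- `R^{n+1} (ker d⁰) = H^{n+1}(Φ M)` when `M` is exact in degrees `1` to `n+1`. -/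
theorem nonempty_rightDerived_iso_homology (n : ℕ)
    (hM : ∀ j, 0 < j → j ≤ n + 1 → M.ExactAt j) :
    Nonempty ((Φ.rightDerived (n + 1)).obj (zc M 0) ≅
      ((Φ.mapHomologicalComplex (ComplexShape.up ℕ)).obj M).homology (n + 1)) := by
  obtain ⟨e⟩ := nonempty_rightDerived_iso_kernel_gamma Φ M n fun j h1 h2 => hM j h1 (by omega)
  have h0 : gamma Φ (M.sc (n + 1)) = 0 := (Φ.map_isZero
    ((M.exactAt_iff_isZero_homology _).1 (hM (n + 1) (by omega) le_rfl))).eq_of_tgt _ _
  have : IsIso (kernel.ι (gamma Φ (M.sc (n + 1)))) := isIso_limit_cone_parallelPair_of_eq h0 (limit.isLimit _)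
  exact ⟨e ≪≫ asIso (kernel.ι (gamma Φ (M.sc (n + 1))))⟩

end GrothLib.HomGamma
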