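import Groth.Prelude.Def_DerLim
import Mathlib.CategoryTheory.Abelian.GrothendieckAxioms.Basic
import Mathlib.CategoryTheory.Functor.OfSequence
import Mathlib.Algebra.Homology.ShortComplex.ExactFunctor
import Mathlib.CategoryTheory.Abelian.Exact
import Mathlib.CategoryTheory.Abelian.FunctorCategory

/-! # The telescope short exact sequence in an abelian category with exact sequential colimits -/

universe v u

open CategoryTheory CategoryTheory.Limits

namespace GrothLib.DerCat

variable {A : Type u} [Category.{v} A] [Abelian A] [HasColimitsOfShape ℕ A]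
  [HasExactColimitsOfShape ℕ A] (K : ℕ → A) [HasCoproduct K]

/-- The projection onto the first `N` summands. -/
noncomputable def projLT (N : ℕ) : (∐ K) ⟶ ∐ K :=
  Sigma.desc fun j => if j < N then Sigma.ι K j else 0

omit [HasColimitsOfShape ℕ A] [HasExactColimitsOfShape ℕ A] in
theorem ι_projLT (N j : ℕ) : Sigma.ι K j ≫ projLT K N = if j < N then Sigma.ι K j else 0 :=
  Sigma.ι_desc _ _

omit [HasColimitsOfShape ℕ A] [HasExactColimitsOfShape ℕ A] in
theorem projLT_comp {M N : ℕ} (h : M ≤ N) : projLT K M ≫ projLT K N = projLT K M :=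
  Sigma.hom_ext _ _ fun j => by
    rw [← Category.assoc, ι_projLT]
    split_ifs with hj
    · rw [ι_projLT, if_pos (by omega)]
    · rw [zero_comp]

omit [HasColimitsOfShape ℕ A] [HasExactColimitsOfShape ℕ A] in
theorem projLT_eq_sum (N : ℕ) :
    projLT K N = ∑ j ∈ Finset.range N, Sigma.π K j ≫ Sigma.ι K j := by
  refine Sigma.hom_ext _ _ fun l => ?_
  rw [ι_projLT, Preadditive.comp_sum]
  split_ifs with h
  · rw [Finset.sum_eq_single l]
    · rw [Sigma.ι_π_eq_id_assoc]
    · intro j _ hj
      rw [Sigma.ι_π_of_ne_assoc K (Ne.symm hj), zero_comp]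
    · simp [h]
  · rw [Finset.sum_eq_zero]
    intro j hj
    rw [Sigma.ι_π_of_ne_assoc K (fun e => h (by simp at hj; omega)), zero_comp]

/-- The projections are jointly monic on a countable coproduct. -/
theorem eq_zero_of_comp_π {Z : A} (k : Z ⟶ ∐ K) (hk : ∀ j, k ≫ Sigma.π K j = 0) : k = 0 := by
  have hkp : ∀ N, k ≫ projLT K N = 0 := fun N => by
    rw [projLT_eq_sum, Preadditive.comp_sum]
    exact Finset.sum_eq_zero fun j _ => by rw [← Category.assoc, hk, zero_comp]
  let P : ℕ ⥤ A := Functor.ofSequence (X := fun _ => ∐ K) (fun N => projLT K N)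
  let W : ℕ ⥤ A := (Functor.const ℕ).obj (cokernel k)
  let β : P ⟶ W := NatTrans.ofSequence (fun N => projLT K N ≫ cokernel.π k) fun N => by
    change P.map _ ≫ projLT K (N + 1) ≫ cokernel.π k = (projLT K N ≫ cokernel.π k) ≫ 𝟙 _
    rw [show P.map (homOfLE (N.le_add_right 1)) = projLT K N from
      Functor.ofSequence_map_homOfLE_succ _ N, ← Category.assoc]
    erw [projLT_comp K (Nat.le_succ N), Category.comp_id]
    rfl
  let d : colimit P ⟶ ∐ K := colimit.desc P (Cocone.mk (∐ K)
    (NatTrans.ofSequence (F := P) (G := (Functor.const ℕ).obj (∐ K))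
      (fun N => projLT K N) fun N => by
        change P.map _ ≫ projLT K (N + 1) = projLT K N ≫ 𝟙 _
        rw [show P.map (homOfLE (N.le_add_right 1)) = projLT K N from
          Functor.ofSequence_map_homOfLE_succ _ N]
        erw [projLT_comp K (Nat.le_succ N), Category.comp_id]))
  have hd : ∀ N, colimit.ι P N ≫ d = projLT K N := fun N => colimit.ι_desc _ N
  let e : (∐ K) ⟶ colimit P := Sigma.desc fun j => Sigma.ι K j ≫ colimit.ι P (j + 1)
  have hed : e ≫ d = 𝟙 _ := Sigma.hom_ext _ _ fun j => by
    rw [Sigma.ι_desc_assoc, Category.assoc]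
    erw [hd, ι_projLT, if_pos (by omega), Category.comp_id]
  have hβ : colimMap β = d ≫ cokernel.π k ≫ colimit.ι W 0 := colimit.hom_ext fun N => by
    have hw : colimit.ι W N = colimit.ι W 0 := by
      have := colimit.w W (homOfLE (Nat.zero_le N))
      change 𝟙 _ ≫ _ = _ at this
      rwa [Category.id_comp] at this
    rw [ι_colimMap, reassoc_of% hd, hw]
    exact Category.assoc _ _ _
  let S : ShortComplex (ℕ ⥤ A) := ShortComplex.mk (kernel.ι β) β (kernel.condition β)
  have hS : S.Exact := ShortComplex.exact_of_f_is_kernel _ (kernelIsKernel β)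
  have hmono : Mono (S.map (colim (J := ℕ) (C := A))).f :=
    (colim (J := ℕ) (C := A)).map_mono (kernel.ι β)
  have hy : (k ≫ e) ≫ colimMap β = 0 := by
    rw [hβ, Category.assoc, reassoc_of% hed, cokernel.condition_assoc, zero_comp]
  obtain ⟨z, hz⟩ : ∃ z, z ≫ colimMap (kernel.ι β) = k ≫ e :=
    ⟨(hS.map (colim (J := ℕ) (C := A))).lift (k ≫ e) hy,
      (hS.map (colim (J := ℕ) (C := A))).lift_f _ _⟩
  have hzero : colimMap (kernel.ι β) ≫ d = 0 := colimit.hom_ext fun N => by
    rw [ι_colimMap_assoc, comp_zero, hd]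
    have h0 : ((kernel.ι β).app N ≫ projLT K N) ≫ cokernel.π k = 0 := by
      rw [Category.assoc]
      exact congrArg (fun t => t.app N) (kernel.condition β)
    have e1 : (kernel.ι β).app N ≫ projLT K N =
        kernel.lift (cokernel.π k) _ h0 ≫ kernel.ι (cokernel.π k) := (kernel.lift_ι _ _ _).symm
    have e2 : kernel.ι (cokernel.π k) ≫ projLT K N = 0 := by
      rw [← cancel_epi (Abelian.factorThruImage k), comp_zero, ← Category.assoc]
      exact (congrArg (· ≫ projLT K N) (Abelian.image.fac k)).trans (hkp N)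
    rw [← projLT_comp K le_rfl]
    erw [← Category.assoc, e1, Category.assoc, e2, comp_zero]
  calc k = (k ≫ e) ≫ d := by rw [Category.assoc, hed, Category.comp_id]
    _ = 0 := by rw [← hz, Category.assoc, hzero, comp_zero]

variable (f : ∀ n, K n ⟶ K (n + 1))

theorem mono_one_sub_shiftMap : Mono (𝟙 (∐ K) - DerLim.shiftMap K f) := by
  refine Preadditive.mono_of_cancel_zero _ fun k hk => eq_zero_of_comp_π K k ?_
  rw [Preadditive.comp_sub, Category.comp_id, sub_eq_zero] at hk
  intro j
  induction j with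
  | zero =>
    rw [hk, Category.assoc]
    convert comp_zero (f := k)
    refine Sigma.hom_ext _ _ fun l => ?_
    rw [DerLim.shiftMap, Sigma.ι_desc_assoc, Category.assoc, Sigma.ι_π_of_ne K (by omega),
      comp_zero, comp_zero]
  | succ j ih =>
    have : DerLim.shiftMap K f ≫ Sigma.π K (j + 1) = Sigma.π K j ≫ f j := by
      refine Sigma.hom_ext _ _ fun l => ?_
      rw [DerLim.shiftMap, Sigma.ι_desc_assoc, Category.assoc]
      by_cases h : l = j
      · subst h
        rw [Sigma.ι_π_eq_id, Category.comp_id, Sigma.ι_π_eq_id_assoc]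
      · rw [Sigma.ι_π_of_ne K (by omega : l + 1 ≠ j + 1), comp_zero, Sigma.ι_π_of_ne_assoc K h,
          zero_comp]
    rw [hk, Category.assoc, this, ← Category.assoc, ih, zero_comp]

omit [HasExactColimitsOfShape ℕ A] in
theorem telescope_comp (F : ℕ ⥤ A) [HasCoproduct F.obj] :
    (𝟙 (∐ F.obj) - DerLim.shiftMap F.obj (fun n => F.map (homOfLE (Nat.le_succ n)))) ≫
      Sigma.desc (fun n => colimit.ι F n) = 0 := by
  refine Sigma.hom_ext _ _ fun n => ?_
  rw [← Category.assoc, Preadditive.comp_sub, Category.comp_id, DerLim.shiftMap, Sigma.ι_desc,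
    Preadditive.sub_comp, Category.assoc, Sigma.ι_desc, Sigma.ι_desc, colimit.w, sub_self,
    comp_zero]

theorem telescope_shortExact (F : ℕ ⥤ A) [HasCoproduct F.obj] :
    (ShortComplex.mk _ _ (telescope_comp F)).ShortExact where
  mono_f := mono_one_sub_shiftMap F.obj _
  epi_g := ⟨fun a b hab => colimit.hom_ext fun n => by
    simpa using congrArg (fun t => Sigma.ι F.obj n ≫ t) hab⟩
  exact := by
    have hcomm : ∀ {T : A} (h : (∐ F.obj) ⟶ T),
        (𝟙 _ - DerLim.shiftMap F.obj (fun n => F.map (homOfLE (Nat.le_succ n)))) ≫ h = 0 →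
          ∀ n, F.map (homOfLE (Nat.le_succ n)) ≫ Sigma.ι F.obj (n + 1) ≫ h = Sigma.ι F.obj n ≫ h := by
      intro T h hh n
      have := congrArg (fun t => Sigma.ι F.obj n ≫ t) hh
      simp only [Preadditive.sub_comp, Category.id_comp, Preadditive.comp_sub, comp_zero,
        sub_eq_zero, DerLim.shiftMap, Sigma.ι_desc_assoc, Category.assoc] at this
      exact this.symm
    refine ShortComplex.exact_of_g_is_cokernel _ (CokernelCofork.IsColimit.ofπ _ (telescope_comp F)
      (fun h hh => colimit.desc F (Cocone.mk _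
        (NatTrans.ofSequence (F := F) (G := (Functor.const ℕ).obj _)
          (fun n => Sigma.ι F.obj n ≫ h) fun n => by
            change _ = _ ≫ 𝟙 _
            rw [Category.comp_id]
            exact hcomm h hh n)))
      (fun h hh => Sigma.hom_ext _ _ fun n => by
        rw [Sigma.ι_desc_assoc, colimit.ι_desc]; rfl)
      (fun h hh m hm => colimit.hom_ext fun n => by
        erw [colimit.ι_desc]
        change _ = Sigma.ι F.obj n ≫ h
        simp only [← hm, Sigma.ι_desc_assoc]))

end GrothLib.DerCat
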