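import Groth.Agent.Lib.SiteDer.RlimLoc
import Groth.Agent.Lib.DerCat.MapHomology
import Mathlib.Algebra.Homology.DerivedCategory.Ext.EnoughProjectives

/-! # Maps out of an object placed in one degree, and exact fully faithful functors

For a projective `P`, maps `P[-j] ⟶ E` in the derived category are maps `P ⟶ H^j(E)`. An exact
fully faithful functor is fully faithful on such maps when the same holds in the target. -/

set_option autoImplicit false

universe w w' v v' u u'

open CategoryTheory CategoryTheory.Limits Pretriangulated DerivedCategory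
open GrothLib.SiteDer (theta singleShiftOne)

namespace GrothLib.DerTheta

variable {A : Type u} [Category.{v} A] [Abelian A] [HasDerivedCategory.{w} A]

/-- `Hom(X[-j], E) → Hom(X, H^j E)` is bijective. -/
def ThetaBij (X : A) (j : ℤ) (E : DerivedCategory A) : Prop :=
  Function.Bijective (fun φ : (singleFunctor A j).obj X ⟶ E => theta φ)

theorem thetaBij_of_comp {X : A} {j : ℤ} {E E' : DerivedCategory A} (a : E ⟶ E')
    (hH : IsIso ((homologyFunctor A j).map a))
    (hb : Function.Bijective (fun φ : (singleFunctor A j).obj X ⟶ E => φ ≫ a))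
    (h : ThetaBij X j E') : ThetaBij X j E := by
  have hp : Function.Bijective (fun g : X ⟶ (homologyFunctor A j).obj E =>
      g ≫ (homologyFunctor A j).map a) :=
    ⟨fun g g' e => (cancel_mono ((homologyFunctor A j).map a)).1 e,
      fun g => ⟨g ≫ inv ((homologyFunctor A j).map a), by simp⟩⟩
  refine (Function.Bijective.of_comp_iff' hp _).1 ?_
  have e : ((fun g : X ⟶ (homologyFunctor A j).obj E => g ≫ (homologyFunctor A j).map a) ∘
      fun φ : (singleFunctor A j).obj X ⟶ E => theta φ) =
      (fun φ : (singleFunctor A j).obj X ⟶ E' => theta φ) ∘ fun φ => φ ≫ a :=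
    funext fun φ => (SiteDer.theta_comp φ a).symm
  rw [e]
  exact h.comp hb

theorem thetaBij_single (X Y : A) (j : ℤ) : ThetaBij X j ((singleFunctor A j).obj Y) := by
  let i := singleFunctorCompHomologyFunctorIso A j
  have hn : ∀ g : X ⟶ Y, theta ((singleFunctor A j).map g) = g ≫ i.inv.app Y :=
    fun g => (i.inv.naturality g).symm
  refine ⟨fun φ φ' h => ?_, fun g => ⟨(singleFunctor A j).map (g ≫ i.hom.app Y), ?_⟩⟩
  · obtain ⟨g, rfl⟩ := (singleFunctor A j).map_surjective φ
    obtain ⟨g', rfl⟩ := (singleFunctor A j).map_surjective φ'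
    exact congrArg _ ((cancel_mono (i.inv.app Y)).1 (((hn g).symm.trans h).trans (hn g')))
  · refine (hn _).trans ?_
    exact (Category.assoc _ _ _).trans
      ((congrArg (g ≫ ·) (i.hom_inv_id_app _)).trans (Category.comp_id _))

theorem thetaBij_of_isGE (X : A) (j : ℤ) (E : DerivedCategory A) [E.IsGE j] : ThetaBij X j E := by
  let T := (TStructure.t.truncLT (j + 1)).obj E
  let B := (TStructure.t.truncGE (j + 1)).obj E
  let ι : T ⟶ E := (TStructure.t.truncLTι (j + 1)).app E
  have hB : B.IsGE (j + 1) := inferInstanceAs (TStructure.t.IsGE ((TStructure.t.truncGE (j + 1)).obj E) (j + 1))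
  have hTle : T.IsLE j := inferInstanceAs (TStructure.t.IsLE ((TStructure.t.truncLT (j + 1)).obj E) j)
  have hTge : T.IsGE j := inferInstanceAs (TStructure.t.IsGE ((TStructure.t.truncLT (j + 1)).obj E) j)
  have hHι : IsIso ((homologyFunctor A j).map ι) := DerTrunc.isIso_homology_truncLTι E (j + 1) j (by omega)
  have hb : Function.Bijective (fun φ : (singleFunctor A j).obj X ⟶ T => φ ≫ ι) := by
    refine SiteDer.bijective_comp_of_cone (TStructure.t.triangleLTGE_distinguished (j + 1) E) _
      (fun φ => (TStructure.t (C := A)).zero_of_isLE_of_isGE φ j (j + 1) (by omega) inferInstance hB)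
      (fun φ => ?_)
    refine (cancel_epi (singleShiftOne X j).inv).1 (Eq.trans ?_ comp_zero.symm)
    exact (TStructure.t (C := A)).zero_of_isLE_of_isGE _ (j - 1) (j + 1) (by omega) inferInstance hB
  obtain ⟨e⟩ := DerTrunc.nonempty_iso_single T j
  have hT : ThetaBij X j T := thetaBij_of_comp e.hom inferInstance
    ⟨fun φ φ' h => (cancel_mono e.hom).1 h, fun φ => ⟨φ ≫ e.inv, by simp⟩⟩ (thetaBij_single _ _ j)
  refine ⟨fun φ φ' h => ?_, fun g => ?_⟩
  · obtain ⟨ψ, rfl⟩ := hb.2 φ
    obtain ⟨ψ', rfl⟩ := hb.2 φ'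
    refine congrArg (· ≫ ι) (hT.1 ?_)
    simpa [SiteDer.theta_comp, cancel_mono] using h
  · obtain ⟨ψ, hψ⟩ := hT.2 (g ≫ inv ((homologyFunctor A j).map ι))
    exact ⟨ψ ≫ ι, by simp only [SiteDer.theta_comp]; simp only at hψ; rw [hψ]; simp⟩

theorem hom_single_eq_zero {P : A} [Projective P] {j n : ℤ} (hn : n < j) (W : DerivedCategory A) [W.IsLE n]
    (φ : (singleFunctor A j).obj P ⟶ W) : φ = 0 := by
  obtain ⟨L, hL, ⟨e⟩⟩ := W.exists_iso_Q_obj_of_isLE n
  refine (cancel_epi ((singleFunctorIsoCompQ A j).app P).inv).1 ?_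
  refine (cancel_mono e.hom).1 ?_
  rw [DerivedCategory.from_singleFunctor_obj_eq_zero_of_projective
    ((((singleFunctorIsoCompQ A j).app P).inv ≫ φ) ≫ e.hom) n hn]
  simp

/-- Maps out of a projective placed in one degree are maps into cohomology. -/
theorem thetaBij_of_projective (P : A) [Projective P] (j : ℤ) (E : DerivedCategory A) :
    ThetaBij P j E := by
  let T := (TStructure.t.truncLT j).obj E
  let B := (TStructure.t.truncGE j).obj E
  have hB : B.IsGE j := inferInstanceAs (TStructure.t.IsGE ((TStructure.t.truncGE j).obj E) j)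
  have hT : T.IsLE (j - 1) := inferInstanceAs (TStructure.t.IsLE ((TStructure.t.truncLT j).obj E) (j - 1))
  have hT1 : (T⟦(1 : ℤ)⟧).IsLE (j - 2) :=
    (TStructure.t (C := A)).isLE_shift T (j - 1) 1 (j - 2) (by omega)
  refine thetaBij_of_comp ((TStructure.t.truncGEπ j).app E)
    (DerTrunc.isIso_homology_truncGEπ E j j le_rfl) ?_ (thetaBij_of_isGE P j B)
  refine SiteDer.bijective_comp_of_cone (rot_of_distTriang _ (TStructure.t.triangleLTGE_distinguished j E))
    _ (fun φ => hom_single_eq_zero (n := j - 2) (by omega) (T⟦(1 : ℤ)⟧) φ) (fun φ => ?_)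
  exact (cancel_epi (singleShiftOne P j).inv).1
    ((hom_single_eq_zero (n := j - 2) (by omega) (T⟦(1 : ℤ)⟧) _).trans comp_zero.symm)

variable {B : Type u'} [Category.{v'} B] [Abelian B] [HasDerivedCategory.{w'} B]
  (F : A ⥤ B) [F.Additive] [PreservesFiniteLimits F] [PreservesFiniteColimits F]

/-- An exact fully faithful functor is fully faithful on maps out of a one-degree object, as soon as
those maps are detected by cohomology on both sides. -/
theorem bijective_map [F.Full] [F.Faithful] {X : A} {j : ℤ} {N : DerivedCategory A}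
    (hA : ThetaBij X j N) (hB : ThetaBij (F.obj X) j (F.mapDerivedCategory.obj N)) :
    Function.Bijective (fun φ : (singleFunctor A j).obj X ⟶ N => F.mapDerivedCategory.map φ) := by
  let e := (F.mapDerivedCategorySingleFunctor j).app X
  let h := DerTrunc.homologyMapIso F j
  let i := singleFunctorCompHomologyFunctorIso A j
  let i' := singleFunctorCompHomologyFunctorIso B j
  let c : F.obj X ⟶ F.obj X := i'.inv.app (F.obj X) ≫ (homologyFunctor B j).map e.inv ≫
    h.hom.app ((singleFunctor A j).obj X) ≫ F.map (i.hom.app X)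
  have hc : IsIso c := by
    dsimp only [c]
    infer_instance
  have hpre : Function.Bijective (fun ψ : F.mapDerivedCategory.obj ((singleFunctor A j).obj X) ⟶
      F.mapDerivedCategory.obj N => e.inv ≫ ψ) :=
    ⟨fun ψ ψ' he => (cancel_epi e.inv).1 he, fun ψ => ⟨e.hom ≫ ψ, by simp⟩⟩
  refine (Function.Bijective.of_comp_iff' (hB.comp hpre) _).1 ?_
  have key : ((fun φ : (singleFunctor B j).obj (F.obj X) ⟶ F.mapDerivedCategory.obj N => theta φ) ∘
      fun ψ : F.mapDerivedCategory.obj ((singleFunctor A j).obj X) ⟶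
        F.mapDerivedCategory.obj N => e.inv ≫ ψ) ∘ (fun φ => F.mapDerivedCategory.map φ) =
      (fun g : F.obj X ⟶ F.obj ((homologyFunctor A j).obj N) => c ≫ g ≫ h.inv.app N) ∘
        (fun g => F.map g) ∘ fun φ => theta φ := by
    funext φ
    dsimp only [Function.comp, c, theta]
    have hn := h.hom.naturality φ
    dsimp only [Functor.comp_map] at hn
    rw [(homologyFunctor B j).map_comp, F.map_comp]
    simp only [Category.assoc]
    rw [← F.map_comp_assoc, Iso.hom_inv_id_app]
    simp only [Functor.comp_obj, F.map_id, Category.id_comp]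
    rw [← reassoc_of% hn, Iso.hom_inv_id_app]
    exact congrArg _ (congrArg _ (Category.comp_id _).symm)
  rw [key]
  refine Function.Bijective.comp ⟨fun g g' he => ?_, fun g => ⟨inv c ≫ g ≫ h.hom.app N, by simp⟩⟩
    (Function.Bijective.comp ⟨F.map_injective, F.map_surjective⟩ hA)
  exact (cancel_mono (h.inv.app N)).1 ((cancel_epi c).1 he)

end GrothLib.DerTheta
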